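import Cfsg.Agent.Lib.ThreeTransp.M22Iso.Local
import Cfsg.Agent.GenA.Tower.Local23

/-!
Two groups of type M(22) are isomorphic by an isomorphism carrying one class to the other.
-/

set_option autoImplicit false
set_option linter.unusedSectionVars false

namespace Cfsg.Agent.ThreeTransp.M22Iso

open Cfsg.Agent.InvChar.Coset (FF)
open Cfsg.Agent.ThreeTransp
open Cfsg.Agent.ThreeTransp.Factor (nb Hd mem_Hd Hd_commute)
open Cfsg.Agent.ThreeTransp.Cover (mem_nb_symm conj_nb)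
open Coord (stabGens)

local notation "H" => Cfsg.hermForm 6 FF 2

universe u v

/-- An element centralising the class of a group with trivial centre is trivial. -/
theorem eq_one_of_fix' {G : Type u} [Group G] {D : Set G} (hD : Cfsg.IsThreeTranspositionGroup D)
    (hZ : Subgroup.center G = ⊥) {g : G} (h : ∀ y ∈ D, g * y * g⁻¹ = y) : g = 1 := by
  rw [← Subgroup.mem_bot, ← hZ, Subgroup.mem_center_iff]
  intro k
  have hk : k ∈ Subgroup.closure D := hD.2.2 ▸ Subgroup.mem_top k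
  induction hk using Subgroup.closure_induction with
  | mem y hy => exact (mul_inv_eq_iff_eq_mul.1 (h y hy)).symm
  | one => rw [one_mul, mul_one]
  | mul p q _ _ hp hq => rw [mul_assoc, hq, ← mul_assoc, hp, mul_assoc]
  | inv p _ hp => exact ((show Commute p g from hp).inv_left).eq

/-- A bijection of two classes respecting the lines comes from an isomorphism. -/
theorem iso_of_map' {G : Type u} [Group G] {D : Set G} {G' : Type v} [Group G'] {D' : Set G'}
    (hD : Cfsg.IsThreeTranspositionGroup D) (hZ : Subgroup.center G = ⊥)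
    (hD' : Cfsg.IsThreeTranspositionGroup D') (hZ' : Subgroup.center G' = ⊥)
    {Φ : G → G'} (maps : ∀ y ∈ D, Φ y ∈ D')
    (inj : ∀ y ∈ D, ∀ z ∈ D, Φ y = Φ z → y = z) (surj : ∀ y ∈ D', ∃ z ∈ D, Φ z = y)
    (hconj : ∀ y ∈ D, ∀ z ∈ D, Φ (y * z * y⁻¹) = Φ y * Φ z * (Φ y)⁻¹) :
    ∃ e : G ≃* G', e '' D = D' ∧ ∀ y ∈ D, e y = Φ y := by
  let R : Subgroup (G × G') := Subgroup.closure {p | ∃ y ∈ D, p = (y, Φ y)}
  have P : ∀ p ∈ R, ∀ z ∈ D,
      p.1 * z * p.1⁻¹ ∈ D ∧ Φ (p.1 * z * p.1⁻¹) = p.2 * Φ z * p.2⁻¹ := by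
    intro p hp
    induction hp using Subgroup.closure_induction'' with
    | mem p hp =>
      obtain ⟨y, hy, rfl⟩ := hp
      exact fun z hz => ⟨hD.2.1 y z hz, hconj y hy z hz⟩
    | inv_mem p hp =>
      obtain ⟨y, hy, rfl⟩ := hp
      rw [Prod.inv_mk, Classes.inv hD hy, Classes.inv hD' (maps y hy)]
      exact fun z hz => ⟨hD.2.1 y z hz, hconj y hy z hz⟩
    | one => exact fun z hz => ⟨by simpa using hz, by simp⟩
    | mul p q _ _ hp hq =>
      intro z hz
      obtain ⟨h1, h2⟩ := hq z hz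
      obtain ⟨h3, h4⟩ := hp _ h1
      rw [show (p * q).1 * z * (p * q).1⁻¹ = p.1 * (q.1 * z * q.1⁻¹) * p.1⁻¹ by simp [mul_assoc]]
      refine ⟨h3, ?_⟩
      rw [h4, h2]
      simp [mul_assoc]
  have sur1 : ∀ h : G, ∃ h', (h, h') ∈ R := by
    intro h
    have hh : h ∈ Subgroup.closure D := hD.2.2 ▸ Subgroup.mem_top h
    induction hh using Subgroup.closure_induction with
    | mem y hy => exact ⟨Φ y, Subgroup.subset_closure ⟨y, hy, rfl⟩⟩
    | one => exact ⟨1, one_mem R⟩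
    | mul p q _ _ hp hq =>
      obtain ⟨p', hp⟩ := hp; obtain ⟨q', hq⟩ := hq
      exact ⟨p' * q', mul_mem hp hq⟩
    | inv p _ hp => obtain ⟨p', hp⟩ := hp; exact ⟨p'⁻¹, inv_mem hp⟩
  have sur2 : ∀ h : G', ∃ g, (g, h) ∈ R := by
    intro h
    have hh : h ∈ Subgroup.closure D' := hD'.2.2 ▸ Subgroup.mem_top h
    induction hh using Subgroup.closure_induction with
    | mem q hq =>
      obtain ⟨y, hy, rfl⟩ := surj q hq
      exact ⟨y, Subgroup.subset_closure ⟨y, hy, rfl⟩⟩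
    | one => exact ⟨1, one_mem R⟩
    | mul p q _ _ hp hq =>
      obtain ⟨p', hp⟩ := hp; obtain ⟨q', hq⟩ := hq
      exact ⟨p' * q', mul_mem hp hq⟩
    | inv p _ hp => obtain ⟨p', hp⟩ := hp; exact ⟨p'⁻¹, inv_mem hp⟩
  let f1 : ↥R →* G := (MonoidHom.fst G G').comp R.subtype
  let f2 : ↥R →* G' := (MonoidHom.snd G G').comp R.subtype
  have hb1 : Function.Bijective f1 := by
    refine ⟨(injective_iff_map_eq_one f1).2 ?_, fun h => ?_⟩
    · rintro ⟨⟨g, k⟩, hp⟩ (rfl : g = 1)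
      refine Subtype.ext (Prod.ext rfl (eq_one_of_fix' hD' hZ' fun y' hy' => ?_))
      obtain ⟨y, hy, rfl⟩ := surj y' hy'
      have h := (P _ hp y hy).2
      simp only [one_mul, inv_one, mul_one] at h
      exact h.symm
    · obtain ⟨h', hh⟩ := sur1 h
      exact ⟨⟨_, hh⟩, rfl⟩
  have hb2 : Function.Bijective f2 := by
    refine ⟨(injective_iff_map_eq_one f2).2 ?_, fun h => ?_⟩
    · rintro ⟨⟨g, k⟩, hp⟩ (rfl : k = 1)
      refine Subtype.ext (Prod.ext (eq_one_of_fix' hD hZ fun y hy => ?_) rfl)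
      obtain ⟨h1, h2⟩ := P _ hp y hy
      simp only [one_mul, inv_one, mul_one] at h2
      exact inj _ h1 y hy h2
    · obtain ⟨h', hh⟩ := sur2 h
      exact ⟨⟨_, hh⟩, rfl⟩
  let e : G ≃* G' := (MulEquiv.ofBijective f1 hb1).symm.trans (MulEquiv.ofBijective f2 hb2)
  have he : ∀ y ∈ D, e y = Φ y := by
    intro y hy
    have hk : (y, Φ y) ∈ R := Subgroup.subset_closure ⟨y, hy, rfl⟩
    have : (MulEquiv.ofBijective f1 hb1).symm y = ⟨_, hk⟩ :=
      (MulEquiv.symm_apply_eq _).2 rfl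
    show (MulEquiv.ofBijective f2 hb2) ((MulEquiv.ofBijective f1 hb1).symm y) = Φ y
    rw [this]; rfl
  refine ⟨e, Set.ext fun z => ⟨?_, fun hz => ?_⟩, he⟩
  · rintro ⟨y, hy, rfl⟩; rw [he y hy]; exact maps y hy
  · obtain ⟨y, hy, rfl⟩ := surj z hz
    exact ⟨y, hy, he y hy⟩

variable {G : Type u} [Group G] [Finite G] {D : Set G} (hD : Cfsg.IsThreeTranspositionGroup D)
  (hprim : Cfsg.IsPrimitiveUnderConj D) (h22 : Cfsg.IsOfTypeM22 G D)
  {G' : Type v} [Group G'] [Finite G'] {D' : Set G'}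
  (hD' : Cfsg.IsThreeTranspositionGroup D')
  (hprim' : Cfsg.IsPrimitiveUnderConj D') (h22' : Cfsg.IsOfTypeM22 G' D')

section One

include hD hprim h22

theorem nb_ncard_split {a x : G} (ha : a ∈ D) (hx : x ∈ nb D a) :
    ∃ c ∈ nb D x, ¬ Commute a c := by
  by_contra! h
  have hsub : nb D x ⊆ insert a (nb D a ∩ nb D x) := fun y hy => by
    by_cases e : y = a
    · exact Or.inl e
    · exact Or.inr ⟨⟨hy.1, e, h y hy⟩, hy⟩
  have h1 := (Set.ncard_le_ncard hsub (Set.toFinite _)).trans (Set.ncard_insert_le _ _)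
  rw [M22.ncard_nb hD hprim h22 hx.1, M22.ncard_nb_inter hD hprim h22 ha hx] at h1
  omega

/-- The common neighbours of a non-commuting pair are permuted transitively by the group they
generate. -/
theorem trans_inter {a c : G} (ha : a ∈ D) (hc : c ∈ D) (hac : ¬ Commute a c) {x y : G}
    (hx : x ∈ nb D a ∩ nb D c) (hy : y ∈ nb D a ∩ nb D c) :
    ∃ s ∈ Subgroup.closure (nb D a ∩ nb D c), s * x * s⁻¹ = y := by
  have step : ∀ p ∈ nb D a ∩ nb D c, ∀ q ∈ nb D a ∩ nb D c, ¬ Commute p q →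
      ∃ s ∈ Subgroup.closure (nb D a ∩ nb D c), s * p * s⁻¹ = q := by
    intro p hp q hq hpq
    refine ⟨p * q, mul_mem (Subgroup.subset_closure hp) (Subgroup.subset_closure hq), ?_⟩
    have hb := RankThree.braid3 hD hp.1.1 hq.1.1 hpq
    rw [mul_inv_rev, Classes.inv hD hp.1.1, Classes.inv hD hq.1.1]
    calc p * q * p * (q * p) = p * q * p * q * p := by simp [mul_assoc]
      _ = q * p * q * q * p := by rw [hb]
      _ = q := by
        rw [mul_assoc (q * p), Classes.sq hD hq.1.1, mul_one, mul_assoc, Classes.sq hD hp.1.1,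
          mul_one]
  by_cases hxy : Commute x y
  · obtain ⟨z, hz, hzx, hzy⟩ : ∃ z ∈ nb D a ∩ nb D c, ¬ Commute x z ∧ ¬ Commute z y := by
      by_contra! hall
      have hsub : nb D a ∩ nb D c ⊆
          insert x (nb D a ∩ nb D c ∩ nb D x) ∪ insert y (nb D a ∩ nb D c ∩ nb D y) := by
        intro z hz
        by_cases h1 : z = x
        · exact Or.inl (Or.inl h1)
        by_cases h2 : z = y
        · exact Or.inr (Or.inl h2)
        by_cases h3 : Commute x z
        · exact Or.inl (Or.inr ⟨hz, hz.1.1, h1, h3⟩)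
        · exact Or.inr (Or.inr ⟨hz, hz.1.1, h2, (hall z hz h3).symm⟩)
      have h1 := (Set.ncard_le_ncard hsub (Set.toFinite _)).trans (Set.ncard_union_le _ _)
      have h2 := Set.ncard_insert_le x (nb D a ∩ nb D c ∩ nb D x)
      have h3 := Set.ncard_insert_le y (nb D a ∩ nb D c ∩ nb D y)
      rw [M22.inner_degree hD hprim h22 ha hc hac hx] at h2
      rw [M22.inner_degree hD hprim h22 ha hc hac hy] at h3
      rw [M22.ncard_inter hD hprim h22 ha hc hac] at h1
      omega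
    obtain ⟨s, hs, es⟩ := step x hx z hz hzx
    obtain ⟨t, ht, et⟩ := step z hz y hy hzy
    exact ⟨t * s, mul_mem ht hs, by rw [← et, ← es]; group⟩
  · exact step x hx y hy hxy

/-- An element centralising the class is trivial. -/
theorem eq_one_of_fix {g : G} (h : ∀ y ∈ D, g * y * g⁻¹ = y) : g = 1 :=
  eq_one_of_fix' hD h22.1 h

end One

include hD hprim h22 hD' hprim' h22'

/-- A bijection of the classes respecting the lines comes from an isomorphism. -/
theorem iso_of_map {Φ : G → G'} (maps : ∀ y ∈ D, Φ y ∈ D')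
    (inj : ∀ y ∈ D, ∀ z ∈ D, Φ y = Φ z → y = z) (surj : ∀ y ∈ D', ∃ z ∈ D, Φ z = y)
    (hconj : ∀ y ∈ D, ∀ z ∈ D, Φ (y * z * y⁻¹) = Φ y * Φ z * (Φ y)⁻¹) :
    ∃ e : G ≃* G', e '' D = D' ∧ ∀ y ∈ D, e y = Φ y :=
  iso_of_map' hD h22.1 hD' h22'.1 maps inj surj hconj

/-- A map between the neighbourhoods of two members carrying one common neighbourhood to one
extends to an isomorphism. -/
theorem exists_iso_ext {a c : G} {a' c' : G'} {θ : G → G'} (ha : a ∈ D) (hc : c ∈ D)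
    (hac : ¬ Commute a c) (ha' : a' ∈ D') (hc' : c' ∈ D') (hac' : ¬ Commute a' c')
    (hθ : IsBall D a D' a' θ) (hS : ∀ q ∈ nb D a, (θ q ∈ nb D' c' ↔ q ∈ nb D c)) :
    ∃ e : G ≃* G', e '' D = D' ∧ e a = a' ∧ e c = c' ∧ ∀ q ∈ nb D a, e q = θ q := by
  classical
  obtain ⟨x, hxS, l, hlen, hl, hprod⟩ : ∃ x ∈ nb D a ∩ nb D c, ∃ l : List G, l.length = 5 ∧
      (∀ q ∈ l, q ∈ nb D a ∧ Commute q x) ∧ l.prod = a := by
    obtain ⟨x₀, hx₀, l, hlen, hl, hprod⟩ := exists_five hD hprim h22 ha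
    obtain ⟨x, hxS⟩ := M22.inter_nonempty hD hprim h22 ha hc hac
    obtain ⟨g, hg, hgx⟩ := RankThree.linked_inner hD hprim (M22.exists_commuting hD hprim h22)
      (Primitive.cores_central hD hprim (M22.exists_commuting hD hprim h22)).1 ha hx₀.1 hxS.1.1
      hx₀.2.2 hxS.1.2.2 hx₀.2.1 hxS.1.2.1
    have hga : Commute g a := by
      rw [M22.loc_eq hD hprim h22 ha] at hg
      exact (Hd_commute hg).symm
    refine ⟨x, hxS, l.map (MulAut.conj g), by rw [List.length_map, hlen], ?_, ?_⟩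
    · intro q hq
      obtain ⟨p, hp, rfl⟩ := List.mem_map.1 hq
      refine ⟨M22.Chart.conj_mem_nb hD hga (hl p hp).1, ?_⟩
      rw [← hgx, MulAut.conj_apply]
      exact Basic.commute_conj.2 (hl p hp).2
    · rw [← map_list_prod, hprod, MulAut.conj_apply]
      exact mul_inv_eq_iff_eq_mul.2 hga.eq
  have hx := hxS.1
  have hcx : c ∈ nb D x := mem_nb_symm hc hxS.2
  obtain ⟨φ, hφ, hag, hφa, hφc⟩ := exists_ext hD h22 hD' h22' ha hc hac ha' hc' hac' hθ hxS hS
  obtain ⟨ψ, hψq, hψa, hψx⟩ := exists_lift hD hprim h22 hD' hprim' h22' ha ha' hθ hx hlen hl hprod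
    hφ hag hφa hcx hac
  have hcard : D.ncard = D'.ncard := by
    rw [M22.ncard_class hD hprim h22, M22.ncard_class hD' hprim' h22']
  have haH : a ∈ Hd D a := M22.mem_Hd_self hD hprim h22 ha
  have hS' : nb D a ∩ nb D c ⊆ (Hd D a : Set G) := fun y hy => mem_Hd hy.1
  -- elements of the group generated by the common neighbours
  have fixc : ∀ s ∈ Subgroup.closure (nb D a ∩ nb D c), Commute s c ∧
      ∃ hs : s ∈ Hd D a, Commute (ψ ⟨s, hs⟩ : G') c' := by
    intro s hs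
    induction hs using Subgroup.closure_induction with
    | mem y hy =>
      refine ⟨hy.2.2.2.symm, mem_Hd hy.1, ?_⟩
      rw [hψq y hy.1]
      exact ((hS y hy.1).2 hy.2).2.2.symm
    | one =>
      refine ⟨Commute.one_left _, one_mem _, ?_⟩
      rw [show (⟨1, one_mem _⟩ : ↥(Hd D a)) = 1 from rfl, map_one]
      exact Commute.one_left _
    | mul p q _ _ hp hq =>
      obtain ⟨hp0, hp1, hp2⟩ := hp
      obtain ⟨hq0, hq1, hq2⟩ := hq
      refine ⟨hp0.mul_left hq0, mul_mem hp1 hq1, ?_⟩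
      rw [show (⟨p * q, mul_mem hp1 hq1⟩ : ↥(Hd D a)) = ⟨p, hp1⟩ * ⟨q, hq1⟩ from rfl, map_mul]
      exact hp2.mul_left hq2
    | inv p _ hp =>
      obtain ⟨hp0, hp1, hp2⟩ := hp
      refine ⟨hp0.inv_left, inv_mem hp1, ?_⟩
      rw [show (⟨p⁻¹, inv_mem hp1⟩ : ↥(Hd D a)) = (⟨p, hp1⟩)⁻¹ from rfl, map_inv]
      exact hp2.inv_left
  have stab : ∀ h : ↥(Hd D a), (h : G) * c * (h : G)⁻¹ = c →
      (ψ h : G') * c' * (ψ h : G')⁻¹ = c' := by
    intro h hh
    have hy : (h : G) * x * (h : G)⁻¹ ∈ nb D a ∩ nb D c := by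
      refine ⟨M22.Chart.conj_mem_nb hD (Hd_commute h.2).symm hx, ?_⟩
      have := conj_nb hD (h : G) hxS.2
      rwa [hh] at this
    obtain ⟨s, hs, hsx⟩ := trans_inter hD hprim h22 ha hc hac hxS hy
    obtain ⟨hsc, hs1, hs2⟩ := fixc s hs
    obtain ⟨g, hg⟩ : ∃ g : ↥(Hd D a), g = (⟨s, hs1⟩)⁻¹ * h := ⟨_, rfl⟩
    have hgG : (g : G) = s⁻¹ * h := by rw [hg]; rfl
    have hgx : Commute (g : G) x := by
      refine mul_inv_eq_iff_eq_mul.1 ?_
      rw [hgG, show s⁻¹ * (h : G) * x * (s⁻¹ * (h : G))⁻¹ = s⁻¹ * ((h : G) * x * (h : G)⁻¹) * s by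
        group, ← hsx]
      group
    have hgc : (g : G) * c * (g : G)⁻¹ = c := by
      rw [hgG, show s⁻¹ * (h : G) * c * (s⁻¹ * (h : G))⁻¹ = s⁻¹ * ((h : G) * c * (h : G)⁻¹) * s by
        group, hh, mul_assoc, ← hsc.eq, inv_mul_cancel_left]
    have h1 := hψx g hgx c hcx
    rw [hgc, hφc] at h1
    rw [show h = ⟨s, hs1⟩ * g by rw [hg, mul_inv_cancel_left], map_mul, Subgroup.coe_mul,
      show (ψ ⟨s, hs1⟩ : G') * (ψ g : G') * c' * ((ψ ⟨s, hs1⟩ : G') * (ψ g : G'))⁻¹ =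
        (ψ ⟨s, hs1⟩ : G') * ((ψ g : G') * c' * (ψ g : G')⁻¹) * (ψ ⟨s, hs1⟩ : G')⁻¹ by group,
      ← h1]
    exact mul_inv_eq_iff_eq_mul.2 hs2.eq
  -- the outer members
  have hout : ∀ y, ∃ h : ↥(Hd D a), y ∈ D → ¬ Commute a y → (h : G) * c * (h : G)⁻¹ = y := by
    intro y
    by_cases hy : y ∈ D ∧ ¬ Commute a y
    · obtain ⟨g, hg, hgy⟩ := RankThree.linked_outer hD hprim (M22.exists_commuting hD hprim h22)
        ha hc hy.1 hac hy.2
      rw [M22.loc_eq hD hprim h22 ha] at hg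
      exact ⟨⟨g, hg⟩, fun _ _ => hgy⟩
    · exact ⟨1, fun h1 h2 => absurd ⟨h1, h2⟩ hy⟩
  choose t ht using hout
  obtain ⟨Φ, hΦdef⟩ : ∃ Φ : G → G', ∀ y, Φ y = if y = a then a' else if Commute a y then θ y
      else (ψ (t y) : G') * c' * (ψ (t y) : G')⁻¹ := ⟨_, fun y => rfl⟩
  have Φa : Φ a = a' := by simp [hΦdef]
  have Φn : ∀ y ∈ nb D a, Φ y = θ y := fun y hy => by simp [hΦdef, hy.2.1, hy.2.2]
  have nca : ∀ h : ↥(Hd D a), ¬ Commute a ((h : G) * c * (h : G)⁻¹) := fun h e => hac (by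
    refine (Basic.commute_conj (g := (h : G))).1 ?_
    rwa [RankThree.conj_self_of_commute (Hd_commute h.2)])
  have Φo : ∀ h : ↥(Hd D a),
      Φ ((h : G) * c * (h : G)⁻¹) = (ψ h : G') * c' * (ψ h : G')⁻¹ := by
    intro h
    obtain ⟨y, hy⟩ : ∃ y, y = (h : G) * c * (h : G)⁻¹ := ⟨_, rfl⟩
    rw [← hy]
    have hay : ¬ Commute a y := hy ▸ nca h
    have hne : y ≠ a := fun e => hay (e ▸ Commute.refl a)
    rw [hΦdef, if_neg hne, if_neg hay]
    have hty := ht y (hy ▸ hD.2.1 _ c hc) hay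
    have hfix : (((t y)⁻¹ * h : ↥(Hd D a)) : G) * c * (((t y)⁻¹ * h : ↥(Hd D a)) : G)⁻¹ = c := by
      simp only [Subgroup.coe_mul, InvMemClass.coe_inv]
      calc _ = ((t y : ↥(Hd D a)) : G)⁻¹ * ((h : G) * c * (h : G)⁻¹) * (t y : G) := by group
        _ = c := by rw [← hy]; conv_lhs => arg 1; arg 2; rw [← hty]
                    group
    have h1 := stab _ hfix
    rw [map_mul, map_inv, Subgroup.coe_mul, InvMemClass.coe_inv] at h1
    conv_lhs => rw [← h1]
    group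
  have maps : ∀ y ∈ D, Φ y ∈ D' := by
    intro y hy
    by_cases e : y = a
    · rw [e, Φa]; exact ha'
    by_cases hay : Commute a y
    · rw [Φn y ⟨hy, e, hay⟩]; exact (hθ.maps y ⟨hy, e, hay⟩).1
    · rw [← ht y hy hay, Φo]; exact hD'.2.1 _ c' hc'
  have surj : ∀ y ∈ D', ∃ z ∈ D, Φ z = y := by
    intro y hy
    by_cases e : y = a'
    · exact ⟨a, ha, Φa.trans e.symm⟩
    by_cases hay : Commute a' y
    · obtain ⟨z, hz, hzy⟩ := hθ.surj y ⟨hy, e, hay⟩
      exact ⟨z, hz.1, (Φn z hz).trans hzy⟩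
    · obtain ⟨g, hg, hgy⟩ := RankThree.linked_outer hD' hprim' (M22.exists_commuting hD' hprim' h22')
        ha' hc' hy hac' hay
      rw [M22.loc_eq hD' hprim' h22' ha'] at hg
      refine ⟨_, hD.2.1 (ψ.symm ⟨g, hg⟩ : G) c hc, ?_⟩
      rw [Φo, MulEquiv.apply_symm_apply]
      exact hgy
  have inj : ∀ y ∈ D, ∀ z ∈ D, Φ y = Φ z → y = z := fun y hy z hz e =>
    Set.inj_on_of_surj_on_of_ncard_le (fun b _ => Φ b) (fun b hb => maps b hb)
      (fun b hb => by
        obtain ⟨z, hz, h⟩ := surj b hb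
        exact ⟨z, hz, h⟩) hcard.le hy hz e (Set.toFinite _)
  have equi : ∀ h : ↥(Hd D a), ∀ y ∈ D,
      Φ ((h : G) * y * (h : G)⁻¹) = (ψ h : G') * Φ y * (ψ h : G')⁻¹ := by
    intro h y hy
    by_cases e : y = a
    · rw [e, RankThree.conj_self_of_commute (Hd_commute h.2), Φa,
        RankThree.conj_self_of_commute (Hd_commute (ψ h).2)]
    by_cases hay : Commute a y
    · have hy' : y ∈ nb D a := ⟨hy, e, hay⟩
      have hn := M22.Chart.conj_mem_nb hD (Hd_commute h.2).symm hy'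
      rw [Φn y hy', Φn _ hn, ← hψq _ hn, ← hψq _ hy',
        show (⟨(h : G) * y * (h : G)⁻¹, mem_Hd hn⟩ : ↥(Hd D a)) = h * ⟨y, mem_Hd hy'⟩ * h⁻¹ from
          rfl, map_mul, map_mul, map_inv]
      rfl
    · conv_lhs => rw [← ht y hy hay]
      rw [show (h : G) * ((t y : G) * c * (t y : G)⁻¹) * (h : G)⁻¹ =
        ((h * t y : ↥(Hd D a)) : G) * c * ((h * t y : ↥(Hd D a)) : G)⁻¹ by
          rw [Subgroup.coe_mul]; group, Φo, map_mul, Subgroup.coe_mul]
      conv_rhs => rw [← ht y hy hay, Φo]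
      group
  -- agreement with the extension
  have near : ∀ z ∈ nb D x, ¬ Commute a z → Φ z = φ z := by
    intro z hz haz
    obtain ⟨E⟩ := exists_coord hD h22 hx.1
    obtain ⟨A, hA, hAa⟩ := E.cover a (mem_nb_symm ha hx)
    obtain ⟨v, hv, hvc⟩ := E.cover c hcx
    obtain ⟨w, hw, hwz⟩ := E.cover z hz
    obtain ⟨h, hh, e⟩ := E.trans hD hA hv hw
      (fun e => hac (hAa ▸ hvc ▸ (E.comm_iff A v hA hv).2 e))
      (fun e => haz (hAa ▸ hwz ▸ (E.comm_iff A w hA hw).2 e))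
    rw [hAa] at hh
    rw [hvc, hwz] at e
    have hh' : h ∈ Hd D a ∧ Commute h x := by
      clear e
      induction hh using Subgroup.closure_induction with
      | mem y hy =>
        refine ⟨?_, hy.1.2.2.symm⟩
        by_cases e : y = a
        · rw [e]; exact haH
        · exact mem_Hd ⟨hy.1.1, e, hy.2.symm⟩
      | one => exact ⟨one_mem _, Commute.one_left _⟩
      | mul p q _ _ hp hq => exact ⟨mul_mem hp.1 hq.1, hp.2.mul_left hq.2⟩
      | inv p _ hp => exact ⟨inv_mem hp.1, hp.2.inv_left⟩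
    have h1 := hψx ⟨h, hh'.1⟩ hh'.2 c hcx
    have h2 := Φo ⟨h, hh'.1⟩
    simp only [e] at h1 h2
    rw [h2, h1, hφc]
  -- commuting members
  have base : ∀ z ∈ D, Commute c z → ¬ Commute a z → Commute c' (Φ z) := by
    intro z hz hcz haz
    by_cases e : z = c
    · have := Φo 1
      rw [OneMemClass.coe_one, one_mul, inv_one, mul_one, map_one, OneMemClass.coe_one, one_mul,
        inv_one, mul_one] at this
      rw [e, this]
    obtain ⟨x1, ⟨hx1a, hx1c⟩, hx1z⟩ :=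
      (M22.hyp hD hprim h22).five a ha c hc z hz hac haz e hcz
    obtain ⟨s, hs, hsx⟩ := trans_inter hD hprim h22 ha hc hac hxS ⟨hx1a, hx1c⟩
    obtain ⟨hsc, hs1, hs2⟩ := fixc s hs
    have hz0 : s⁻¹ * z * s ∈ nb D x := by
      have := conj_nb hD s⁻¹ (mem_nb_symm hz hx1z)
      rw [← hsx] at this
      simpa [mul_assoc] using this
    have haz0 : ¬ Commute a (s⁻¹ * z * s) := fun h => by
      have h1 := (Basic.commute_conj (g := s)).2 h
      rw [RankThree.conj_self_of_commute (Hd_commute hs1),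
        show s * (s⁻¹ * z * s) * s⁻¹ = z by group] at h1
      exact haz h1
    have hcz0 : Commute c (s⁻¹ * z * s) := by
      have h1 := (Basic.commute_conj (g := s⁻¹)).2 hcz
      rwa [inv_inv, mul_assoc, ← hsc.eq, inv_mul_cancel_left] at h1
    have hne0 : s⁻¹ * z * s ≠ c := fun h => e (by
      rw [show z = s * (s⁻¹ * z * s) * s⁻¹ by group, h]
      exact mul_inv_eq_iff_eq_mul.2 hsc.eq)
    have h0 := (hφ.comm c hcx _ hz0).2 hcz0
    rw [hφc, ← near _ hz0 haz0] at h0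
    have h1 := (Basic.commute_conj (g := (ψ ⟨s, hs1⟩ : G'))).2 h0
    rw [mul_inv_eq_iff_eq_mul.2 hs2.eq, ← equi ⟨s, hs1⟩ _ hz0.1] at h1
    simpa [mul_assoc] using h1
  have comm : ∀ y ∈ D, ∀ z ∈ D, Commute y z → Commute (Φ y) (Φ z) := by
    have outer : ∀ y ∈ D, ¬ Commute a y → ∀ z ∈ D, Commute y z → Commute (Φ y) (Φ z) := by
      intro y hy hay z hz hyz
      have hy' := ht y hy hay
      have key : ∀ z₀ ∈ D, Commute c z₀ → Commute c' (Φ z₀) := by
        intro z₀ hz₀ hcz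
        by_cases haz : Commute a z₀
        · have hne : z₀ ≠ a := fun e => hac (e ▸ hcz.symm)
          have hn : z₀ ∈ nb D a := ⟨hz₀, hne, haz⟩
          rw [Φn _ hn]
          exact ((hS _ hn).2 ⟨hz₀, fun e => hac (e ▸ haz), hcz⟩).2.2
        · exact base z₀ hz₀ hcz haz
      have h0 : Commute c ((t y : G)⁻¹ * z * (t y : G)) := by
        have h1 := (Basic.commute_conj (g := (t y : G)⁻¹)).2 hyz
        rw [inv_inv] at h1
        rwa [show (t y : G)⁻¹ * y * (t y : G) = c by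
          conv_lhs => arg 1; arg 2; rw [← hy']
          group] at h1
      have hz0 := key _ (Classes.inv_conj_mem hD (t y : G) hz) h0
      have h1 := (Basic.commute_conj (g := (ψ (t y) : G'))).2 hz0
      rw [← equi (t y) _ (Classes.inv_conj_mem hD (t y : G) hz), ← Φo, hy'] at h1
      simpa [mul_assoc] using h1
    intro y hy z hz hyz
    by_cases hay : Commute a y
    · by_cases haz : Commute a z
      · by_cases ey : y = a
        · by_cases ez : z = a
          · rw [ey, ez]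
          · rw [ey, Φa, Φn z ⟨hz, ez, haz⟩]
            exact (hθ.maps z ⟨hz, ez, haz⟩).2.2
        · by_cases ez : z = a
          · rw [ez, Φa, Φn y ⟨hy, ey, hay⟩]
            exact (hθ.maps y ⟨hy, ey, hay⟩).2.2.symm
          · rw [Φn y ⟨hy, ey, hay⟩, Φn z ⟨hz, ez, haz⟩]
            exact (hθ.comm y ⟨hy, ey, hay⟩ z ⟨hz, ez, haz⟩).2 hyz
      · exact (outer z hz haz y hy hyz.symm).symm
    · exact outer y hy hay z hz hyz
  have commiff : ∀ y ∈ D, ∀ z ∈ D, Commute (Φ y) (Φ z) → Commute y z := by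
    intro y hy z hz h
    by_cases e : z = y
    · rw [e]
    have hsub : Φ '' nb D y ⊆ nb D' (Φ y) := by
      rintro _ ⟨w, hw, rfl⟩
      exact ⟨maps w hw.1, fun e' => hw.2.1 (inj w hw.1 y hy e'), comm y hy w hw.1 hw.2.2⟩
    have heq : Φ '' nb D y = nb D' (Φ y) := Set.eq_of_subset_of_ncard_le hsub (by
      rw [Set.InjOn.ncard_image fun p hp q hq e' => inj p hp.1 q hq.1 e',
        M22.ncard_nb hD hprim h22 hy, M22.ncard_nb hD' hprim' h22' (maps y hy)]) (Set.toFinite _)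
    have hz' : Φ z ∈ nb D' (Φ y) := ⟨maps z hz, fun e' => e (inj z hz y hy e'), h⟩
    obtain ⟨w, hw, hwz⟩ := (heq ▸ hz' : Φ z ∈ Φ '' nb D y)
    rw [← inj w hw.1 z hz hwz]
    exact hw.2.2
  obtain ⟨e, he, heΦ⟩ : ∃ e : G ≃* G', e '' D = D' ∧ ∀ y ∈ D, e y = Φ y := by
    refine iso_of_map hD hprim h22 hD' hprim' h22' maps inj surj fun y hy z hz => ?_
    rw [Classes.inv hD hy, Classes.inv hD' (maps y hy)]
    by_cases hyz : Commute y z
    · rw [hyz.eq, mul_assoc, Classes.sq hD hy, mul_one, (comm y hy z hz hyz).eq, mul_assoc,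
        Classes.sq hD' (maps y hy), mul_one]
    have hw := Classes.conj_mem hD hy hz
    rcases GenA.Tower.hull22 hD' hprim' h22' (maps y hy) (maps z hz)
      (fun h => hyz (commiff y hy z hz h)) (maps _ hw) (fun t' ht' => by
        obtain ⟨t, ht, rfl⟩ := surj t' ht'.1.1
        have h1 := commiff y hy t ht ht'.1.2.2
        have h2 := commiff z hz t ht ht'.2.2.2
        exact comm _ hw t ht ((h1.mul_left h2).mul_left h1)) with e | e | e
    · exfalso
      have h := inj _ hw y hy e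
      refine hyz ?_
      rw [mul_eq_right] at h
      rw [show z = y⁻¹ by rw [← mul_eq_one_iff_inv_eq.1 h]]
      exact (Commute.refl y).inv_right
    · exfalso
      have h := inj _ hw z hz e
      refine hyz ?_
      show y * z = z * y
      calc y * z = y * z * (y * y) := by rw [Classes.sq hD hy, mul_one]
        _ = z * y := by rw [← mul_assoc, h]
    · exact e
  refine ⟨e, he, (heΦ a ha).trans Φa, ?_, fun q hq => (heΦ q hq.1).trans (Φn q hq)⟩
  have := Φo 1
  rw [OneMemClass.coe_one, one_mul, inv_one, mul_one, map_one, OneMemClass.coe_one, one_mul,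
    inv_one, mul_one] at this
  exact (heΦ c hc).trans this

/-- Uniqueness. -/
theorem exists_iso : ∃ e : G ≃* G', e '' D = D' := by
  obtain ⟨a, ha, -⟩ := id hprim.2.1
  obtain ⟨a', ha', -⟩ := id hprim'.2.1
  obtain ⟨c, hc, hac⟩ := Classes.exists_noncomm hD hprim.1 hprim.2.1 ha
  obtain ⟨c', hc', hac'⟩ := Classes.exists_noncomm hD' hprim'.1 hprim'.2.1 ha'
  obtain ⟨C, hC⟩ := exists_std hD hprim h22 ha hc hac
  obtain ⟨C', hC'⟩ := exists_std hD' hprim' h22' ha' hc' hac'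
  obtain ⟨θ, hθ, hθf⟩ := exists_ball C C'
  have hS : ∀ q ∈ nb D a, (θ q ∈ nb D' c' ↔ q ∈ nb D c) := by
    intro q hq
    obtain ⟨v, hv, rfl⟩ := C.cover q hq
    rw [hθf v hv]
    exact ⟨fun h => ((hC v hv).2 ((hC' v hv).1 ⟨C'.mem v hv, h⟩)).2,
      fun h => ((hC' v hv).2 ((hC v hv).1 ⟨hq, h⟩)).2⟩
  obtain ⟨e, he, -⟩ := exists_iso_ext hD hprim h22 hD' hprim' h22' ha hc hac ha' hc' hac' hθ hS
  exact ⟨e, he⟩

end Cfsg.Agent.ThreeTransp.M22Iso
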