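import Cfsg.Agent.Lib.ThreeTransp.M22Iso.Coord

/-!
In a group of type M(22) the common neighbourhood of two non-commuting members has one and the same
shape in suitable coordinates at either of them.
-/

set_option autoImplicit false
set_option linter.unusedSectionVars false

namespace Cfsg.Agent.ThreeTransp.M22Iso

open Cfsg.Agent.Classical.Unitary
open Cfsg.Agent.Forms
open Cfsg.Agent.InvChar.Coset (FF)
open Cfsg.Agent.ThreeTransp
open Cfsg.Agent.ThreeTransp.Factor (nb)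

local notation "H" => Cfsg.hermForm 6 FF 2

/-- The vector with two non-zero coordinates. -/
def pl (i j : Fin 6) (l : FF) : Vec := Pi.single i 1 + Pi.single j l

theorem H_pl (z : Vec) (i j : Fin 6) (l : FF) : H z (pl i j l) = z i + l ^ 2 * z j := by
  rw [pl, H_add_right4, show Pi.single j l = l • (Pi.single j 1 : Vec) by
    rw [← Pi.single_smul]; simp, H_smul_right, H_single_right hF4, H_single_right hF4]

theorem pl_pt {i j : Fin 6} (hij : i ≠ j) {l : FF} (hl : l ≠ 0) : Pt (pl i j l) := by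
  refine ⟨fun e => hl ?_, ?_⟩
  · simpa [pl, hij.symm] using congrFun e j
  · rw [H_pl]
    simp only [pl, Pi.add_apply, Pi.single_eq_same, Pi.single_eq_of_ne hij,
      Pi.single_eq_of_ne hij.symm, add_zero, zero_add]
    rw [show l ^ 2 * l = l ^ 3 by ring, cube l hl, add_self]

theorem tau_pl {z : Vec} {i j : Fin 6} (hij : i ≠ j) {l : FF} (hl : l ≠ 0) :
    τ (pl i j l) z = Function.update (Function.update z i (l ^ 2 * z j)) j (l * z i) := by
  funext k
  rw [τ, Pi.add_apply, Pi.smul_apply, smul_eq_mul, H_pl, pl, Pi.add_apply]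
  by_cases hk : k = j
  · subst hk
    rw [Function.update_self, Pi.single_eq_of_ne hij.symm, Pi.single_eq_same, zero_add]
    linear_combination (z k) * cube l hl + add_self (z k)
  rw [Function.update_of_ne hk, Pi.single_eq_of_ne hk, add_zero]
  by_cases hk' : k = i
  · subst hk'
    rw [Function.update_self, Pi.single_eq_same]
    linear_combination add_self (z k)
  · rw [Function.update_of_ne hk', Pi.single_eq_of_ne hk', mul_zero, add_zero]

theorem cross_cases : ∀ a b : FF, (∀ l : FF, l ≠ 0 → a + l ^ 2 * b ≠ 0) → (a = 0 ↔ b ≠ 0) := by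
  decide

theorem pair_cases : ∀ a b : FF, a + b = 0 → a + (FF.w) ^ 2 * b = 0 → a = 0 ∧ b = 0 := by decide

theorem nonzero_cases : ∀ l : FF, l ≠ 0 → l = 1 ∨ l = FF.w ∨ l = FF.w2 := by decide

set_option maxRecDepth 100000 in
theorem wt_two_cross : ∀ x : Vec, x 0 = 0 → x 1 = 0 → (x 2 = 0 ↔ x 3 ≠ 0) → (x 4 = 0 ↔ x 5 ≠ 0) →
    wt x = 2 := by decide +kernel

set_option maxRecDepth 100000 in
theorem wt_two_supp : ∀ x : Vec, wt x = 2 →
    (x 0 = 0 ∧ x 1 = 0) ∨ (x 2 = 0 ∧ x 3 = 0) ∨ (x 4 = 0 ∧ x 5 = 0) := by decide +kernel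

set_option maxRecDepth 100000 in
theorem wt_four_supp : ∀ x : Vec, wt x = 4 → ∃ i j : Fin 6, i ≠ j ∧ x i = 0 ∧ x j = 0 := by
  decide +kernel

set_option maxRecDepth 100000 in
theorem card_two : (Finset.univ.filter fun v : Vec => Pt v ∧ wt v = 2).card = 135 := by
  decide +kernel

set_option maxRecDepth 100000 in
theorem card_two' :
    (Finset.univ.filter fun v : Vec => Pt v ∧ wt v = 2 ∧ v 0 = 0 ∧ v 1 = 0).card = 54 := by
  decide +kernel

theorem wt_six_iff (v : Vec) : wt v = 6 ↔ ∀ i, v i ≠ 0 := by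
  rw [wt]
  constructor
  · intro h i
    have h' : (Finset.univ.filter fun i => v i ≠ 0) = Finset.univ :=
      Finset.eq_univ_of_card _ (by rw [h]; rfl)
    exact (Finset.mem_filter.1 (h' ▸ Finset.mem_univ i : i ∈ _)).2
  · intro h
    rw [Finset.filter_true_of_mem fun i _ => h i]
    rfl

theorem wt_mon (π : Equiv.Perm (Fin 6)) {c : Fin 6 → FF} (hc : ∀ i, c i ≠ 0) (σ : FF ≃+* FF)
    (v : Vec) : wt ((mon π c hc σ).T v) = wt v := by
  rw [wt, wt]
  refine (Finset.card_bij' (fun i _ => π i) (fun i _ => π.symm i) ?_ ?_ ?_ ?_).symm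
  · intro i hi
    simp only [Finset.mem_filter, Finset.mem_univ, true_and] at hi ⊢
    rw [mon_apply]
    exact mul_ne_zero (fun e => hi ((RingEquiv.map_eq_zero_iff σ).1 e)) (hc i)
  · intro i hi
    simp only [Finset.mem_filter, Finset.mem_univ, true_and] at hi ⊢
    intro e
    apply hi
    rw [← π.apply_symm_apply i, mon_apply, e, map_zero, zero_mul]
  · intro i _; simp
  · intro i _; simp

theorem wt_pl : ∀ i j : Fin 6, i ≠ j → ∀ l : FF, l ≠ 0 → wt (pl i j l) = 2 := by decide +kernel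

theorem exists_third : ∀ m : FF, ∃ m' : FF, m' ≠ 0 ∧ m' ≠ m := by decide

theorem five_rest : ∀ i j : Fin 5, i ≠ j → ∃ k l m : Fin 5, (k ≠ i ∧ k ≠ j) ∧ (l ≠ i ∧ l ≠ j) ∧
    (m ≠ i ∧ m ≠ j) ∧ k ≠ l ∧ k ≠ m ∧ l ≠ m := by decide

/-- Equality or disjointness of two pairs. -/
def Rel5 (i j k l : Fin 5) : Prop :=
  (i = k ∧ j = l) ∨ (i = l ∧ j = k) ∨ (i ≠ k ∧ i ≠ l ∧ j ≠ k ∧ j ≠ l)

instance (i j k l : Fin 5) : Decidable (Rel5 i j k l) := inferInstanceAs (Decidable (_ ∨ _))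

theorem rel5_sep : ∀ i j k l : Fin 5, i ≠ j → k ≠ l → ¬ ((i = k ∧ j = l) ∨ (i = l ∧ j = k)) →
    ∃ r t : Fin 5, r ≠ t ∧ ((Rel5 i j r t ∧ ¬ Rel5 k l r t) ∨ (¬ Rel5 i j r t ∧ Rel5 k l r t)) := by
  decide +kernel

universe u

variable {G : Type u} [Group G] [Finite G] {D : Set G}
  (hD : Cfsg.IsThreeTranspositionGroup D) (hprim : Cfsg.IsPrimitiveUnderConj D)
  (h22 : Cfsg.IsOfTypeM22 G D)
include hD hprim h22

variable {a c : G} (ha : a ∈ D) (hc : c ∈ D) (hac : ¬ Commute a c)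
include ha hc hac

omit hprim h22 ha hc hac in
theorem conj_mem_nb2 {b x y : G} (hx : x ∈ nb D b) (hy : y ∈ nb D b) : x * y * x ∈ nb D b := by
  have h := Cover.conj_nb hD x hy
  rwa [Classes.inv hD hx.1, ← hx.2.2.eq, mul_assoc, Classes.sq hD hx.1, mul_one] at h

omit hprim h22 ha hc hac in
theorem conj_mem_inter {x y : G} (hx : x ∈ nb D a ∩ nb D c) (hy : y ∈ nb D a ∩ nb D c) :
    x * y * x ∈ nb D a ∩ nb D c :=
  ⟨conj_mem_nb2 hD hx.1 hy.1, conj_mem_nb2 hD hx.2 hy.2⟩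

/-- The common neighbours inside of a pair and of one of their common neighbours. -/
theorem three_common {p p' q : G} (hp : p ∈ nb D a ∩ nb D c) (hp' : p' ∈ nb D a ∩ nb D c)
    (hpp : ¬ Commute p p') (hq : q ∈ nb D a ∩ nb D c ∩ nb D p ∩ nb D p') :
    (nb D q ∩ nb D a ∩ nb D c ∩ nb D p ∩ nb D p').ncard = 3 ∧
      ∀ s ∈ nb D q ∩ nb D a ∩ nb D c ∩ nb D p ∩ nb D p',
      ∀ t ∈ nb D q ∩ nb D a ∩ nb D c ∩ nb D p ∩ nb D p', s ≠ t → ¬ Commute s t := by
  obtain ⟨C⟩ := exists_coord hD h22 hq.1.1.1.1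
  exact C.four_cross (Cover.mem_nb_symm ha hq.1.1.1) (Cover.mem_nb_symm hc hq.1.1.2)
    (Cover.mem_nb_symm hp.1.1 hq.1.2) (Cover.mem_nb_symm hp'.1.1 hq.2) hac hpp hp.1.2.2.symm
    hp.2.2.2.symm hp'.1.2.2.symm hp'.2.2.2.symm

/-- No chain of four among the common neighbours of two such pairs. -/
theorem no_chain (C : Coord D a) {p p' e₁ e₂ q₁ q : G} (hp : p ∈ nb D a ∩ nb D c)
    (hp' : p' ∈ nb D a ∩ nb D c) (hpp : ¬ Commute p p')
    (he₁ : e₁ ∈ nb D a ∩ nb D c ∩ nb D p ∩ nb D p') (he₂ : e₂ ∈ nb D a ∩ nb D c ∩ nb D p ∩ nb D p')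
    (hq₁ : q₁ ∈ nb D a ∩ nb D c ∩ nb D p ∩ nb D p') (hq : q ∈ nb D a ∩ nb D c ∩ nb D p ∩ nb D p')
    (n12 : ¬ Commute e₁ e₂) (n23 : ¬ Commute e₂ q₁) (n34 : ¬ Commute q₁ q)
    (c13 : Commute e₁ q₁) (c14 : Commute e₁ q) (c24 : Commute e₂ q) : False := by
  classical
  set W : Set G := nb D a ∩ nb D c ∩ nb D p ∩ nb D p' with hW
  obtain ⟨v₁, hv₁, rfl⟩ := C.cover e₁ he₁.1.1.1
  obtain ⟨v₂', hv₂', rfl⟩ := C.cover e₂ he₂.1.1.1
  obtain ⟨v₃', hv₃', rfl⟩ := C.cover q₁ hq₁.1.1.1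
  obtain ⟨v₄', hv₄', rfl⟩ := C.cover q hq.1.1.1
  have norm : ∀ {v w : Vec}, Pt v → Pt w → ¬ Commute (C.f v) (C.f w) →
      ∃ w', Pt w' ∧ C.f w' = C.f w ∧ H v w' = 1 := by
    intro v w hv hw hn
    have ht : H v w ≠ 0 := fun e => hn ((C.comm_iff v w hv hw).2 e)
    refine ⟨H v w • w, hw.smul ht, C.smul_eq hw ht, ?_⟩
    rw [H_smul_right, ← pow_succ, cube _ ht]
  obtain ⟨v₂, hv₂, e2, h12⟩ := norm hv₁ hv₂' n12
  rw [← e2] at he₂ n23 c24
  obtain ⟨v₃, hv₃, e3, h23⟩ := norm hv₂ hv₃' n23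
  rw [← e3] at hq₁ n34 c13
  obtain ⟨v₄, hv₄, e4, h34⟩ := norm hv₃ hv₄' n34
  rw [← e4] at hq c14 c24
  have h13 := (C.comm_iff _ _ hv₁ hv₃).1 c13
  have h14 := (C.comm_iff _ _ hv₁ hv₄).1 c14
  have h24 := (C.comm_iff _ _ hv₂ hv₄).1 c24
  have h21 : H v₂ v₁ = 1 := by rw [← H_conj4, h12, one_pow]
  have h32 : H v₃ v₂ = 1 := by rw [← H_conj4, h23, one_pow]
  have h43 : H v₄ v₃ = 1 := by rw [← H_conj4, h34, one_pow]
  obtain ⟨u, hu⟩ : ∃ u : Fin 5 → Vec,
      u = ![0, v₁, v₁ + v₂, v₁ + v₂ + v₃, v₁ + v₂ + v₃ + v₄] := ⟨_, rfl⟩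
  obtain ⟨M, hM⟩ : ∃ M : Fin 5 → Fin 5 → FF, M = fun i j => if i = 0 ∨ j = 0 ∨ i = j then 0 else 1 :=
    ⟨_, rfl⟩
  have two : (1 : FF) + 1 = 0 := add_self 1
  have gram : ∀ i j, H (u i) (u j) = M i j := by
    intro i j
    rw [hu, hM]
    fin_cases i <;> fin_cases j <;>
      simp [H_add_left, H_add_right4, H_zero_left, H_zero_right hF4, hv₁.2, hv₂.2, hv₃.2, hv₄.2,
        h12, h21, h23, h32, h34, h43, h13, H_comm_zero.1 h13, h14, H_comm_zero.1 h14, h24,
        H_comm_zero.1 h24, two]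
  have hpair : ∀ i j k l : Fin 5, i ≠ j → k ≠ l → H (u i + u j) (u k + u l) =
      if Rel5 i j k l then 0 else 1 := by
    intro i j k l hij hkl
    rw [H_add_left, H_add_right4, H_add_right4, gram, gram, gram, gram, hM]
    revert i j k l
    decide
  have hthird : ∀ i j : Fin 5, ∃ k, k ≠ i ∧ k ≠ j := by decide
  have hpt : ∀ i j : Fin 5, i ≠ j → Pt (u i + u j) := by
    intro i j hij
    obtain ⟨k, hki, hkj⟩ := hthird i j
    refine ⟨fun e => ?_, by rw [hpair i j i j hij hij]; exact if_pos (Or.inl ⟨rfl, rfl⟩)⟩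
    have h := hpair i j j k hij hkj.symm
    rw [e, H_zero_left, if_neg (by simp [Rel5, hij, hki.symm, hkj.symm])] at h
    exact zero_ne_one h
  -- different pairs give different members
  have hdist : ∀ i j k l : Fin 5, i ≠ j → k ≠ l → ¬ ((i = k ∧ j = l) ∨ (i = l ∧ j = k)) →
      C.f (u i + u j) ≠ C.f (u k + u l) := by
    intro i j k l hij hkl hne e
    obtain ⟨r, t, hrt, h⟩ := rel5_sep i j k l hij hkl hne
    have h1 := C.comm_iff _ _ (hpt i j hij) (hpt r t hrt)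
    have h2 := C.comm_iff _ _ (hpt k l hkl) (hpt r t hrt)
    rw [e, h2, hpair k l r t hkl hrt, hpair i j r t hij hrt] at h1
    rcases h with ⟨a1, a2⟩ | ⟨a1, a2⟩
    · rw [if_neg a2, if_pos a1] at h1
      exact one_ne_zero (h1.2 rfl)
    · rw [if_pos a2, if_neg a1] at h1
      exact one_ne_zero (h1.1 rfl)
  have hstep : ∀ i j k : Fin 5, i ≠ j → j ≠ k → i ≠ k → C.f (u i + u j) ∈ W → C.f (u j + u k) ∈ W →
      C.f (u i + u k) ∈ W := by
    intro i j k hij hjk hik h1 h2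
    have e : τ (u i + u j) (u j + u k) = u i + u k := by
      rw [τ, hpair j k i j hjk hij, if_neg (by simp [Rel5, hij.symm, hjk.symm, hik.symm]), one_smul]
      linear_combination (norm := abel_nf) vec_add_self (u j)
    rw [← e, ← C.line _ _ (hpt i j hij) (hpt j k hjk)]
    exact ⟨⟨⟨conj_mem_nb2 hD h1.1.1.1 h2.1.1.1, conj_mem_nb2 hD h1.1.1.2 h2.1.1.2⟩,
      conj_mem_nb2 hD h1.1.2 h2.1.2⟩, conj_mem_nb2 hD h1.2 h2.2⟩
  have w01 : C.f (u 0 + u 1) ∈ W := by simpa [hu] using he₁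
  have w12 : C.f (u 1 + u 2) ∈ W := by
    have e : u 1 + u 2 = v₂ := by
      show u 1 + u 2 = v₂
      rw [hu]
      show v₁ + (v₁ + v₂) = v₂
      rw [← add_assoc, vec_add_self, zero_add]
    rw [e]; exact he₂
  have w23 : C.f (u 2 + u 3) ∈ W := by
    have e : u 2 + u 3 = v₃ := by
      rw [hu]
      show v₁ + v₂ + (v₁ + v₂ + v₃) = v₃
      rw [← add_assoc, vec_add_self, zero_add]
    rw [e]; exact hq₁
  have w34 : C.f (u 3 + u 4) ∈ W := by
    have e : u 3 + u 4 = v₄ := by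
      rw [hu]
      show v₁ + v₂ + v₃ + (v₁ + v₂ + v₃ + v₄) = v₄
      rw [← add_assoc, vec_add_self, zero_add]
    rw [e]; exact hq
  have w02 := hstep 0 1 2 (by decide) (by decide) (by decide) w01 w12
  have w13 := hstep 1 2 3 (by decide) (by decide) (by decide) w12 w23
  have w24 := hstep 2 3 4 (by decide) (by decide) (by decide) w23 w34
  have w03 := hstep 0 2 3 (by decide) (by decide) (by decide) w02 w23
  have w14 := hstep 1 3 4 (by decide) (by decide) (by decide) w13 w34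
  have w04 := hstep 0 3 4 (by decide) (by decide) (by decide) w03 w34
  have hall : ∀ i j : Fin 5, i ≠ j → C.f (u i + u j) ∈ W := by
    intro i j hij
    fin_cases i <;> fin_cases j <;> first
      | exact absurd rfl hij
      | assumption
      | (rw [add_comm]; assumption)
  set X : Finset G := ((Finset.univ : Finset (Fin 5 × Fin 5)).filter fun r => r.1 < r.2).image
    fun r => C.f (u r.1 + u r.2) with hX
  have hXc : X.card ≤ 10 := Finset.card_image_le.trans (by decide)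
  have h18 := M22.eighteen hD hprim h22 ha hc hac hp hp' hpp
  obtain ⟨w, hwW, hwX⟩ : ∃ w ∈ W, w ∉ (X : Set G) :=
    Set.exists_mem_notMem_of_ncard_lt_ncard (s := (X : Set G)) (t := W)
      (by rw [Set.ncard_coe_finset, hW, h18]; omega) (Set.toFinite _)
  obtain ⟨y, hy, rfl⟩ := C.cover w hwW.1.1.1
  have hinX : ∀ k l : Fin 5, k ≠ l → C.f (u k + u l) ∈ X := by
    intro k l hkl
    rw [hX, Finset.mem_image]
    rcases lt_or_gt_of_ne hkl with h | h
    · exact ⟨(k, l), by simpa using h, rfl⟩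
    · exact ⟨(l, k), by simpa using h, by rw [add_comm]⟩
  have hne : ∀ i j : Fin 5, i ≠ j → H y (u i + u j) ≠ 0 := by
    intro i j hij h0
    obtain ⟨k, l, m, hk, hl, hm, hkl, hkm, hlm⟩ := five_rest i j hij
    have hin : ∀ k l : Fin 5, k ≠ l → (k ≠ i ∧ k ≠ j) → (l ≠ i ∧ l ≠ j) →
        C.f (u k + u l) ∈ nb D (C.f (u i + u j)) ∩ nb D a ∩ nb D c ∩ nb D p ∩ nb D p' := by
      intro k l hkl hk hl
      have h := hall k l hkl
      refine ⟨⟨⟨⟨h.1.1.1.1, hdist k l i j hkl hij (fun e => ?_),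
        (C.comm_iff _ _ (hpt i j hij) (hpt k l hkl)).2 ?_⟩, h.1.1.1⟩, h.1.1.2⟩, h.1.2⟩ |>
        fun x => ⟨x, h.2⟩
      · rcases e with ⟨e1, -⟩ | ⟨e1, -⟩
        exacts [hk.1 e1, hk.2 e1]
      · rw [hpair i j k l hij hkl]
        exact if_pos (Or.inr (Or.inr ⟨hk.1.symm, hl.1.symm, hk.2.symm, hl.2.symm⟩))
    obtain ⟨h3, -⟩ := three_common hD hprim h22 ha hc hac hp hp' hpp (hall i j hij)
    have hyw : C.f y ∈ nb D (C.f (u i + u j)) ∩ nb D a ∩ nb D c ∩ nb D p ∩ nb D p' :=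
      ⟨⟨⟨⟨hwW.1.1.1.1, fun e => hwX (by rw [e]; exact hinX i j hij),
        ((C.comm_iff _ _ hy (hpt i j hij)).2 h0).symm⟩, hwW.1.1.1⟩, hwW.1.1.2⟩, hwW.1.2⟩ |>
        fun x => ⟨x, hwW.2⟩
    have hsub : ({C.f y, C.f (u k + u l), C.f (u k + u m), C.f (u l + u m)} : Finset G).card ≤ 3 := by
      rw [← h3, ← Set.ncard_coe_finset]
      refine Set.ncard_le_ncard ?_ (Set.toFinite _)
      intro z hz
      simp only [Finset.coe_insert, Finset.coe_singleton, Set.mem_insert_iff,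
        Set.mem_singleton_iff] at hz
      rcases hz with rfl | rfl | rfl | rfl
      exacts [hyw, hin k l hkl hk hl, hin k m hkm hk hm, hin l m hlm hl hm]
    have n1 : C.f y ≠ C.f (u k + u l) := fun e => hwX (e ▸ hinX k l hkl)
    have n2 : C.f y ≠ C.f (u k + u m) := fun e => hwX (e ▸ hinX k m hkm)
    have n3 : C.f y ≠ C.f (u l + u m) := fun e => hwX (e ▸ hinX l m hlm)
    have n4 : C.f (u k + u l) ≠ C.f (u k + u m) :=
      hdist k l k m hkl hkm (by simp [hlm, hkm, hkl.symm])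
    have n5 : C.f (u k + u l) ≠ C.f (u l + u m) :=
      hdist k l l m hkl hlm (by simp [hkl, hkm, hlm])
    have n6 : C.f (u k + u m) ≠ C.f (u l + u m) :=
      hdist k m l m hkm hlm (by simp [hkl, hkm, hlm.symm])
    rw [Finset.card_insert_of_notMem (by simp [n1, n2, n3]),
      Finset.card_insert_of_notMem (by simp [n4, n5]), Finset.card_insert_of_notMem (by simp [n6]),
      Finset.card_singleton] at hsub
    omega
  obtain ⟨i, j, hij, he⟩ := Fintype.exists_ne_map_eq_of_card_lt (fun i : Fin 5 => H y (u i))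
    (by rw [Fintype.card_fin]; decide)
  exact hne i j hij (by rw [H_add_right4, he]; exact add_self _)

/-- Coordinates at `a` in which the nine points on three orthogonal planes are common neighbours. -/
theorem exists_nine (C : Coord D a) : ∃ S : Sim, ∀ l : FF, l ≠ 0 →
    (C.comp S).f (pl 0 1 l) ∈ nb D a ∩ nb D c ∧ (C.comp S).f (pl 2 3 l) ∈ nb D a ∩ nb D c ∧
      (C.comp S).f (pl 4 5 l) ∈ nb D a ∩ nb D c := by
  classical
  obtain ⟨x, hx⟩ := M22.inter_nonempty hD hprim h22 ha hc hac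
  obtain ⟨p, hp, hpx⟩ : ∃ p ∈ nb D a ∩ nb D c, ¬ Commute x p := by
    by_contra! hall
    have h := M22.inner_degree hD hprim h22 ha hc hac hx
    have h1 : nb D a ∩ nb D c ⊆ insert x (nb D a ∩ nb D c ∩ nb D x) := fun y hy => by
      by_cases e : y = x
      · exact Or.inl e
      · exact Or.inr ⟨hy, hy.1.1, e, hall y hy⟩
    have := (Set.ncard_le_ncard h1 (Set.toFinite _)).trans (Set.ncard_insert_le _ _)
    rw [M22.ncard_inter hD hprim h22 ha hc hac] at this
    omega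
  have h18 := M22.eighteen hD hprim h22 ha hc hac hx hp hpx
  obtain ⟨q, hq⟩ := Set.nonempty_of_ncard_ne_zero (h18.trans_ne (by norm_num : (18 : ℕ) ≠ 0))
  obtain ⟨h3, hpw⟩ := three_common hD hprim h22 ha hc hac hx hp hpx hq
  obtain ⟨e₁, e₂, he₁, he₂, hee⟩ :=
    (Set.one_lt_ncard_iff (Set.toFinite _)).1 (by rw [h3]; norm_num : 1 < _)
  have n12 := hpw e₁ he₁ e₂ he₂ hee
  have he₁W : e₁ ∈ nb D a ∩ nb D c ∩ nb D x ∩ nb D p :=
    ⟨⟨⟨he₁.1.1.1.2, he₁.1.1.2⟩, he₁.1.2⟩, he₁.2⟩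
  have he₂W : e₂ ∈ nb D a ∩ nb D c ∩ nb D x ∩ nb D p :=
    ⟨⟨⟨he₂.1.1.1.2, he₂.1.1.2⟩, he₂.1.2⟩, he₂.2⟩
  obtain ⟨h3', hpw'⟩ := three_common hD hprim h22 ha hc hac hx hp hpx he₁W
  have hqL : q ∈ nb D e₁ ∩ nb D a ∩ nb D c ∩ nb D x ∩ nb D p :=
    ⟨⟨⟨⟨Cover.mem_nb_symm hq.1.1.1.1 he₁.1.1.1.1, hq.1.1.1⟩, hq.1.1.2⟩, hq.1.2⟩, hq.2⟩
  obtain ⟨q₁, hq₁, hq₁q⟩ := Set.exists_ne_of_one_lt_ncard (by rw [h3']; norm_num) q
  have hq₁W : q₁ ∈ nb D a ∩ nb D c ∩ nb D x ∩ nb D p :=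
    ⟨⟨⟨hq₁.1.1.1.2, hq₁.1.1.2⟩, hq₁.1.2⟩, hq₁.2⟩
  have n34 : ¬ Commute q₁ q := hpw' q₁ hq₁ q hqL hq₁q
  have c23 : Commute e₂ q₁ := by
    by_contra h
    exact no_chain hD hprim h22 ha hc hac C hx hp hpx he₁W he₂W hq₁W hq n12 h n34
      hq₁.1.1.1.1.2.2 he₁.1.1.1.1.2.2.symm he₂.1.1.1.1.2.2.symm
  -- the three planes
  have hyp : ∀ {s t : G}, s ∈ nb D a ∩ nb D c → t ∈ nb D a ∩ nb D c → ¬ Commute s t →
      ∃ f₁ f₂ : Vec, H f₁ f₁ = 1 ∧ H f₂ f₂ = 1 ∧ H f₁ f₂ = 0 ∧ H f₂ f₁ = 0 ∧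
        (∀ z : Vec, Pt z → Commute (C.f z) s → Commute (C.f z) t → H z f₁ = 0 ∧ H z f₂ = 0) ∧
        (∀ l : FF, l ≠ 0 → C.f (f₁ + l • f₂) ∈ nb D a ∩ nb D c ∧
          ∀ g : G, Commute g s → Commute g t → Commute g (C.f (f₁ + l • f₂))) := by
    intro s t hs ht hst
    obtain ⟨u, hu, rfl⟩ := C.cover s hs.1
    obtain ⟨v', hv', rfl⟩ := C.cover t ht.1
    have hh : H u v' ≠ 0 := fun e => hst ((C.comm_iff u v' hu hv').2 e)
    obtain ⟨v, hv, ev, huv⟩ : ∃ v, Pt v ∧ C.f v = C.f v' ∧ H u v = 1 :=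
      ⟨H u v' • v', hv'.smul hh, C.smul_eq hv' hh, by rw [H_smul_right, ← pow_succ, cube _ hh]⟩
    rw [← ev] at ht hst ⊢
    have hvu : H v u = 1 := by rw [← H_conj4, huv, one_pow]
    have key : ∀ l m : FF, H (u + l • v) (u + m • v) = m ^ 2 + l := fun l m => by
      simp only [H_add_left, H_add_right4, H_smul_left, H_smul_right, hu.2, hv.2, huv, hvu]
      ring
    have hw : (FF.w : FF) ≠ 0 := by decide
    refine ⟨u + (FF.w : FF) • v, u + (FF.w2 : FF) • v, ?_, ?_, ?_, ?_, ?_, ?_⟩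
    · rw [key]; decide
    · rw [key]; decide
    · rw [key]; decide
    · rw [key]; decide
    · intro z hz h1 h2
      have e1 := (C.comm_iff z u hz hu).1 h1
      have e2 := (C.comm_iff z v hz hv).1 (ev ▸ h2)
      constructor <;> rw [H_add_right4, H_smul_right, e1, e2, mul_zero, add_zero]
    intro l hl
    obtain rfl | rfl | rfl := nonzero_cases l hl
    · have e : u + (FF.w : FF) • v + (1 : FF) • (u + (FF.w2 : FF) • v) = v := by
        funext i
        simp only [Pi.add_apply, Pi.smul_apply, smul_eq_mul]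
        generalize u i = a
        generalize v i = b
        revert a b; decide
      rw [e]
      exact ⟨ht, fun g _ h2 => ev ▸ h2⟩
    · have e : u + (FF.w : FF) • v + (FF.w : FF) • (u + (FF.w2 : FF) • v) =
          (FF.w2 : FF) • τ u v := by
        funext i
        simp only [τ, hvu, Pi.add_apply, Pi.smul_apply, smul_eq_mul]
        generalize u i = a
        generalize v i = b
        revert a b; decide
      rw [e, C.smul_eq (Pt.tau hu.2 hv) (by decide), ← C.line u v hu hv]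
      exact ⟨conj_mem_inter hD hs ht, fun g h1 h2 => (h1.mul_right (ev ▸ h2)).mul_right h1⟩
    · have e : u + (FF.w : FF) • v + (FF.w2 : FF) • (u + (FF.w2 : FF) • v) =
          (FF.w : FF) • u := by
        funext i
        simp only [Pi.add_apply, Pi.smul_apply, smul_eq_mul]
        generalize u i = a
        generalize v i = b
        revert a b; decide
      rw [e, C.smul_eq hu hw]
      exact ⟨hs, fun g h1 _ => h1⟩
  have sI : ∀ {z : G}, z ∈ nb D a ∩ nb D c ∩ nb D x ∩ nb D p → z ∈ nb D a ∩ nb D c :=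
    fun h => h.1.1
  obtain ⟨f0, f1, a0, a1, a01, a10, pA, mA⟩ := hyp hx hp hpx
  obtain ⟨f2, f3, b0, b1, b01, b10, pB, mB⟩ := hyp (sI he₁W) (sI he₂W) n12
  obtain ⟨f4, f5, d0, d1, d01, d10, pE, mE⟩ := hyp (sI hq₁W) (sI hq) n34
  -- orthogonality of different planes
  have span : ∀ {g1 g2 : Vec}, H g1 g1 = 1 → H g2 g2 = 1 → H g1 g2 = 0 → H g2 g1 = 0 →
      (∀ l : FF, l ≠ 0 → Pt (g1 + l • g2)) := by
    intro g1 g2 h1 h2 h3 h4 l hl
    refine ⟨fun e => ?_, ?_⟩
    · have := congrArg (fun z => H z g1) e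
      simp only [H_add_left, H_smul_left, h1, h4, mul_zero, add_zero, H_zero_left] at this
      exact one_ne_zero this
    · simp only [H_add_left, H_add_right4, H_smul_left, H_smul_right, h1, h2, h3, h4, mul_zero,
        add_zero, zero_add, mul_one]
      rw [← pow_succ', cube l hl, add_self]
  have cross : ∀ {g1 g2 k1 k2 : Vec} {s t : G}, H g1 g1 = 1 → H g2 g2 = 1 → H g1 g2 = 0 →
      H g2 g1 = 0 →
      (∀ z : Vec, Pt z → Commute (C.f z) s → Commute (C.f z) t → H z k1 = 0 ∧ H z k2 = 0) →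
      (∀ l : FF, l ≠ 0 → Commute (C.f (g1 + l • g2)) s ∧ Commute (C.f (g1 + l • g2)) t) →
      H g1 k1 = 0 ∧ H g1 k2 = 0 ∧ H g2 k1 = 0 ∧ H g2 k2 = 0 := by
    intro g1 g2 k1 k2 s t h1 h2 h3 h4 hperp hc'
    have e1 := hperp _ (span h1 h2 h3 h4 1 one_ne_zero) (hc' 1 one_ne_zero).1 (hc' 1 one_ne_zero).2
    have hw : (FF.w : FF) ≠ 0 := by decide
    have e2 := hperp _ (span h1 h2 h3 h4 _ hw) (hc' _ hw).1 (hc' _ hw).2
    simp only [H_add_left, H_smul_left, one_mul] at e1 e2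
    have key : ∀ r r' : FF, r + r' = 0 → r + (FF.w : FF) * r' = 0 → r = 0 ∧ r' = 0 := by decide
    obtain ⟨r1, r2⟩ := key _ _ e1.1 e2.1
    obtain ⟨r3, r4⟩ := key _ _ e1.2 e2.2
    exact ⟨r1, r3, r2, r4⟩
  obtain ⟨z20, z21, z30, z31⟩ := cross b0 b1 b01 b10 pA fun l hl =>
    ⟨((mB l hl).2 _ he₁W.1.2.2.2 he₂W.1.2.2.2).symm, ((mB l hl).2 _ he₁W.2.2.2 he₂W.2.2.2).symm⟩
  obtain ⟨z40, z41, z50, z51⟩ := cross d0 d1 d01 d10 pA fun l hl =>
    ⟨((mE l hl).2 _ hq₁W.1.2.2.2 hq.1.2.2.2).symm, ((mE l hl).2 _ hq₁W.2.2.2 hq.2.2.2).symm⟩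
  obtain ⟨z42, z43, z52, z53⟩ := cross d0 d1 d01 d10 pB fun l hl =>
    ⟨((mE l hl).2 _ hq₁.1.1.1.1.2.2 he₁.1.1.1.1.2.2.symm).symm,
      ((mE l hl).2 _ c23 he₂.1.1.1.1.2.2.symm).symm⟩
  have horth : OrthSys ![f0, f1, f2, f3, f4, f5] := by
    intro i j
    fin_cases i <;> fin_cases j <;>
      simp [a0, a1, a01, a10, b0, b1, b01, b10, d0, d1, d01, d10, z20, z21, z30, z31, z40, z41,
        z50, z51, z42, z43, z52, z53, H_comm_zero.1 z20, H_comm_zero.1 z21, H_comm_zero.1 z30,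
        H_comm_zero.1 z31, H_comm_zero.1 z40, H_comm_zero.1 z41, H_comm_zero.1 z50,
        H_comm_zero.1 z51, H_comm_zero.1 z42, H_comm_zero.1 z43, H_comm_zero.1 z52,
        H_comm_zero.1 z53]
  refine ⟨simOf _ horth (RingEquiv.refl FF), fun l hl => ?_⟩
  have himg : ∀ i j : Fin 6, (simOf _ horth (RingEquiv.refl FF)).T (pl i j l) =
      ![f0, f1, f2, f3, f4, f5] i + l • ![f0, f1, f2, f3, f4, f5] j := fun i j => by
    rw [pl, Sim.add, show Pi.single j l = l • (Pi.single j 1 : Vec) by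
      rw [← Pi.single_smul]; simp, Sim.smul, simOf_single, simOf_single]
    rfl
  simp only [Coord.comp_apply, himg]
  exact ⟨(mA l hl).1, (mB l hl).1, (mE l hl).1⟩

/-- In such coordinates the members of weight two on the last four coordinates, and no others
there, are common neighbours. -/
theorem core_iff (C : Coord D a) (h9 : ∀ l : FF, l ≠ 0 → C.f (pl 0 1 l) ∈ nb D a ∩ nb D c ∧
    C.f (pl 2 3 l) ∈ nb D a ∩ nb D c ∧ C.f (pl 4 5 l) ∈ nb D a ∩ nb D c)
    {x : Vec} (hx : Pt x) (x0 : x 0 = 0) (x1 : x 1 = 0) :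
    C.f x ∈ nb D a ∩ nb D c ↔ wt x = 2 := by
  classical
  have hw : (FF.w : FF) ≠ 0 := by decide
  have hw2 : (FF.w2 : FF) ≠ 0 := by decide
  set p := C.f (pl 0 1 1)
  set p' := C.f (pl 0 1 FF.w)
  have hp := (h9 1 one_ne_zero).1
  have hp' := (h9 _ hw).1
  have hpp : ¬ Commute p p' := fun h => by
    have := (C.comm_iff _ _ (pl_pt (by decide) one_ne_zero) (pl_pt (by decide) hw)).1 h
    revert this
    decide
  set W := nb D a ∩ nb D c ∩ nb D p ∩ nb D p'
  have hWiff : ∀ z : Vec, Pt z → (C.f z ∈ W ↔ C.f z ∈ nb D a ∩ nb D c ∧ z 0 = 0 ∧ z 1 = 0) := by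
    intro z hz
    constructor
    · intro h
      have e1 := (C.comm_iff _ _ hz (pl_pt (by decide) one_ne_zero)).1 h.1.2.2.2.symm
      have e2 := (C.comm_iff _ _ hz (pl_pt (by decide) hw)).1 h.2.2.2.symm
      rw [H_pl] at e1 e2
      rw [one_pow, one_mul] at e1
      exact ⟨h.1.1, pair_cases _ _ e1 e2⟩
    · rintro ⟨h, z0, z1⟩
      have ne : ∀ l : FF, l ≠ 0 → C.f z ∈ nb D (C.f (pl 0 1 l)) := by
        intro l hl
        refine ⟨h.1.1, fun e => ?_, ((C.comm_iff _ _ hz (pl_pt (by decide) hl)).2 ?_).symm⟩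
        · obtain ⟨s, hs⟩ := (C.eq_iff _ _ hz (pl_pt (by decide) hl)).1 e
          have := congrFun hs 0
          simp [pl, z0] at this
        · rw [H_pl, z0, z1, mul_zero, add_zero]
      exact ⟨⟨h, ne 1 one_ne_zero⟩, ne _ hw⟩
  have h18 : W.ncard = 18 := M22.eighteen hD hprim h22 ha hc hac hp hp' hpp
  -- members inside have weight two
  have hfwd : ∀ z : Vec, Pt z → C.f z ∈ W → wt z = 2 := by
    intro z hz hzW
    obtain ⟨-, z0, z1⟩ := (hWiff z hz).1 hzW
    have main : ∀ i j k l : Fin 6, i ≠ j → k ≠ l → (∀ m : FF, m ≠ 0 → C.f (pl i j m) ∈ W) →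
        (∀ m : FF, m ≠ 0 → C.f (pl k l m) ∈ W) → (∀ m m' : FF, H (pl i j m) (pl k l m') = 0) →
        (∃ m : FF, m ≠ 0 ∧ C.f z = C.f (pl i j m)) ∨ (∃ m : FF, m ≠ 0 ∧ C.f z = C.f (pl k l m)) ∨
        (z i = 0 ↔ z j ≠ 0) := by
      intro i j k l hij hkl h1 h2 hperp
      by_contra hcon
      push Not at hcon
      obtain ⟨m1, m2, hne⟩ := hcon
      have hbad : ¬ ∀ m : FF, m ≠ 0 → z i + m ^ 2 * z j ≠ 0 := fun h => by
        have h' := cross_cases _ _ h
        rcases hne with ⟨a1, a2⟩ | ⟨a1, a2⟩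
        · exact (h'.1 a1) a2
        · exact a1 (h'.2 a2)
      push Not at hbad
      obtain ⟨m, hm, hm0⟩ := hbad
      rw [← H_pl] at hm0
      have hzc := (C.comm_iff _ _ hz (pl_pt hij hm)).2 hm0
      obtain ⟨h3, -⟩ := three_common hD hprim h22 ha hc hac hp hp' hpp (h1 m hm)
      have hin : ∀ {g : G}, g ∈ W → g ≠ C.f (pl i j m) → Commute (C.f (pl i j m)) g →
          g ∈ nb D (C.f (pl i j m)) ∩ nb D a ∩ nb D c ∩ nb D p ∩ nb D p' := fun {g} hg hne hc' =>
        ⟨⟨⟨⟨hg.1.1.1.1, hne, hc'⟩, hg.1.1.1⟩, hg.1.1.2⟩, hg.1.2⟩ |> fun x => ⟨x, hg.2⟩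
      have hsub : insert (C.f z) ((fun m' => C.f (pl k l m')) '' ({1, FF.w, FF.w2} : Set FF)) ⊆
          nb D (C.f (pl i j m)) ∩ nb D a ∩ nb D c ∩ nb D p ∩ nb D p' := by
        rintro g (rfl | ⟨m', hm', rfl⟩)
        · exact hin hzW (m1 m hm) hzc.symm
        · have hm0' : m' ≠ 0 := by
            simp only [Set.mem_insert_iff, Set.mem_singleton_iff] at hm'
            rcases hm' with rfl | rfl | rfl
            exacts [one_ne_zero, hw, hw2]
          refine hin (h2 m' hm0') (fun e => ?_)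
            ((C.comm_iff _ _ (pl_pt hij hm) (pl_pt hkl hm0')).2 (hperp m m'))
          obtain ⟨s, hs⟩ := (C.eq_iff _ _ (pl_pt hkl hm0') (pl_pt hij hm)).1 e
          obtain ⟨m'', hm''⟩ := exists_third m'
          have e1 : H (pl i j m) (pl k l m'') = 0 := hperp m m''
          rw [hs, H_smul_left] at e1
          have e2 : H (pl k l m') (pl k l m'') ≠ 0 := by
            rw [H_pl]
            simp only [pl, Pi.add_apply, Pi.single_eq_same, Pi.single_eq_of_ne hkl,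
              Pi.single_eq_of_ne hkl.symm, add_zero, zero_add]
            clear e1 hs e hm'
            revert m' m''; decide
          exact mul_ne_zero (fun s0 => (pl_pt hij hm).1 (by rw [hs, s0, zero_smul])) e2 e1
      have hcard : ((fun m' => C.f (pl k l m')) '' ({1, FF.w, FF.w2} : Set FF)).ncard = 3 := by
        rw [Set.InjOn.ncard_image, Set.ncard_eq_toFinset_card']
        · rfl
        intro r hr r' hr' e
        have hr0 : ∀ {t : FF}, t ∈ ({1, FF.w, FF.w2} : Set FF) → t ≠ 0 := by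
          intro t ht
          simp only [Set.mem_insert_iff, Set.mem_singleton_iff] at ht
          rcases ht with rfl | rfl | rfl
          exacts [one_ne_zero, hw, hw2]
        obtain ⟨s, hs⟩ := (C.eq_iff _ _ (pl_pt hkl (hr0 hr)) (pl_pt hkl (hr0 hr'))).1 e
        have e1 := congrFun hs k
        have e2 := congrFun hs l
        simp [pl, hkl, hkl.symm] at e1 e2
        rw [e2, ← e1, one_mul]
      have hnot : C.f z ∉ (fun m' => C.f (pl k l m')) '' ({1, FF.w, FF.w2} : Set FF) := by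
        rintro ⟨m', hm', e⟩
        refine m2 m' ?_ e.symm
        simp only [Set.mem_insert_iff, Set.mem_singleton_iff] at hm'
        rcases hm' with rfl | rfl | rfl
        exacts [one_ne_zero, hw, hw2]
      have := Set.ncard_le_ncard hsub (Set.toFinite _)
      rw [Set.ncard_insert_of_notMem hnot (Set.toFinite _), hcard, h3] at this
      omega
    have hA : ∀ m : FF, m ≠ 0 → C.f (pl 2 3 m) ∈ W := fun m hm =>
      (hWiff _ (pl_pt (by decide) hm)).2 ⟨(h9 m hm).2.1, rfl, rfl⟩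
    have hB : ∀ m : FF, m ≠ 0 → C.f (pl 4 5 m) ∈ W := fun m hm =>
      (hWiff _ (pl_pt (by decide) hm)).2 ⟨(h9 m hm).2.2, rfl, rfl⟩
    have pA : ∀ m m' : FF, H (pl 2 3 m) (pl 4 5 m') = 0 := fun m m' => by
      rw [H_pl]; simp [pl]
    have pB : ∀ m m' : FF, H (pl 4 5 m) (pl 2 3 m') = 0 := fun m m' => by
      rw [H_pl]; simp [pl]
    have same : ∀ i j : Fin 6, i ≠ j → (∃ m : FF, m ≠ 0 ∧ C.f z = C.f (pl i j m)) → wt z = 2 := by
      rintro i j hij ⟨m, hm, e⟩
      obtain ⟨s, hs⟩ := (C.eq_iff _ _ (pl_pt hij hm) hz).1 e.symm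
      have hs0 : s ≠ 0 := fun h => hz.1 (by rw [hs, h, zero_smul])
      rw [hs, wt_smul hs0, wt_pl i j hij m hm]
    rcases main 2 3 4 5 (by decide) (by decide) hA hB pA with h | h | h
    · exact same 2 3 (by decide) h
    · exact same 4 5 (by decide) h
    rcases main 4 5 2 3 (by decide) (by decide) hB hA pB with h' | h' | h'
    · exact same 4 5 (by decide) h'
    · exact same 2 3 (by decide) h'
    exact wt_two_cross z z0 z1 h h'
  set P : Set Vec := {v | Pt v ∧ wt v = 2 ∧ v 0 = 0 ∧ v 1 = 0}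
  have hPc : P.ncard = 54 := by
    rw [← card_two', ← Set.ncard_coe_finset]
    congr 1
    ext v
    simp [P]
  have himg := C.card_image (P := P) (fun v hv => hv.1) (fun v hv s hs =>
    ⟨hv.1.smul hs, by rw [wt_smul hs]; exact hv.2.1, by simp [hv.2.2.1], by simp [hv.2.2.2]⟩)
  have hsub : W ⊆ C.f '' P := by
    intro g hg
    obtain ⟨z, hz, rfl⟩ := C.cover g hg.1.1.1
    obtain ⟨-, z0, z1⟩ := (hWiff z hz).1 hg
    exact ⟨z, ⟨hz, hfwd z hz hg, z0, z1⟩, rfl⟩
  have heq : W = C.f '' P := Set.eq_of_subset_of_ncard_le hsub (by omega) (Set.toFinite _)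
  constructor
  · exact fun h => hfwd x hx ((hWiff x hx).2 ⟨h, x0, x1⟩)
  · intro h
    exact ((hWiff x hx).1 (heq ▸ ⟨x, ⟨hx, h, x0, x1⟩, rfl⟩)).1

/-- A change of given coordinates at `a` after which the common neighbourhood is the standard
set. -/
theorem exists_std_sim (C₀ : Coord D a) :
    ∃ S : Sim, ∀ v, Pt v → ((C₀.comp S).f v ∈ nb D a ∩ nb D c ↔ Std v) := by
  classical
  obtain ⟨S₉, h9'⟩ := exists_nine hD hprim h22 ha hc hac C₀
  obtain ⟨C, hC, h9⟩ : ∃ C : Coord D a, C = C₀.comp S₉ ∧ ∀ l : FF, l ≠ 0 →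
      C.f (pl 0 1 l) ∈ nb D a ∩ nb D c ∧ C.f (pl 2 3 l) ∈ nb D a ∩ nb D c ∧
      C.f (pl 4 5 l) ∈ nb D a ∩ nb D c := ⟨_, rfl, h9'⟩
  have hone : ∀ _i : Fin 6, (1 : FF) ≠ 0 := fun _ => one_ne_zero
  -- coordinates permuted
  have perm : ∀ (π : Equiv.Perm (Fin 6)) (x : Vec),
      ∃ y : Vec, (mon π (fun _ => 1) hone (RingEquiv.refl FF)).T y = x ∧ wt y = wt x ∧
        (∀ i, y i = x (π i)) := by
    intro π x
    refine ⟨fun i => x (π i), ?_, ?_, fun i => rfl⟩
    · funext k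
      obtain ⟨i, rfl⟩ := π.surjective k
      rw [mon_apply]; simp
    · rw [← wt_mon π hone (RingEquiv.refl FF)]
      congr 1
      funext k
      obtain ⟨i, rfl⟩ := π.surjective k
      rw [mon_apply]; simp
  have Tpl : ∀ (π : Equiv.Perm (Fin 6)) (i j : Fin 6) (l : FF),
      (mon π (fun _ => 1) hone (RingEquiv.refl FF)).T (pl i j l) = pl (π i) (π j) l := by
    intro π i j l
    funext k
    obtain ⟨t, rfl⟩ := π.surjective k
    rw [mon_apply]
    simp [pl, Pi.single_apply]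
  -- all members of weight two
  have two : ∀ x, Pt x → wt x = 2 → C.f x ∈ nb D a ∩ nb D c := by
    intro x hx h2
    have via : ∀ π : Equiv.Perm (Fin 6), (∀ l : FF, l ≠ 0 →
        C.f (pl (π 0) (π 1) l) ∈ nb D a ∩ nb D c ∧ C.f (pl (π 2) (π 3) l) ∈ nb D a ∩ nb D c ∧
          C.f (pl (π 4) (π 5) l) ∈ nb D a ∩ nb D c) →
        x (π 0) = 0 → x (π 1) = 0 → C.f x ∈ nb D a ∩ nb D c := by
      intro π hπ h0 h1
      obtain ⟨y, hy, hwy, hyi⟩ := perm π x
      have hyp : Pt y := (Sim.pt_iff _).1 (hy.symm ▸ hx)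
      have := (core_iff hD hprim h22 ha hc hac (C.comp (mon π (fun _ => 1) hone (RingEquiv.refl FF)))
        (fun l hl => by simp only [Coord.comp_apply, Tpl]; exact hπ l hl) hyp
        (by rw [hyi, h0]) (by rw [hyi, h1])).2 (hwy.trans h2)
      rwa [Coord.comp_apply, hy] at this
    rcases wt_two_supp x h2 with ⟨h0, h1⟩ | ⟨h0, h1⟩ | ⟨h0, h1⟩
    · exact via 1 (fun l hl => h9 l hl) h0 h1
    · refine via (Equiv.swap 0 2 * Equiv.swap 1 3) (fun l hl => ?_)
        (by rw [show ((Equiv.swap 0 2 * Equiv.swap 1 3) : Equiv.Perm (Fin 6)) 0 = 2 by decide]; exact h0)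
        (by rw [show ((Equiv.swap 0 2 * Equiv.swap 1 3) : Equiv.Perm (Fin 6)) 1 = 3 by decide]; exact h1)
      exact ⟨(h9 l hl).2.1, (h9 l hl).1, (h9 l hl).2.2⟩
    · refine via (Equiv.swap 0 4 * Equiv.swap 1 5) (fun l hl => ?_)
        (by rw [show ((Equiv.swap 0 4 * Equiv.swap 1 5) : Equiv.Perm (Fin 6)) 0 = 4 by decide]; exact h0)
        (by rw [show ((Equiv.swap 0 4 * Equiv.swap 1 5) : Equiv.Perm (Fin 6)) 1 = 5 by decide]; exact h1)
      exact ⟨(h9 l hl).2.2, (h9 l hl).2.1, (h9 l hl).1⟩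
  have wpl : ∀ {i j : Fin 6}, i ≠ j → ∀ {l : FF}, l ≠ 0 → wt (pl i j l) = 2 :=
    fun {i j} hij {l} hl => wt_pl i j hij l hl
  -- none of weight four
  have four : ∀ x, Pt x → wt x = 4 → C.f x ∉ nb D a ∩ nb D c := by
    intro x hx h4 hmem
    obtain ⟨i, j, hij, xi, xj⟩ := wt_four_supp x h4
    set π : Equiv.Perm (Fin 6) := Equiv.swap 0 i * Equiv.swap 1 (Equiv.swap 0 i j) with hπ
    have hj' : Equiv.swap 0 i j ≠ 0 := fun e => hij (by
      have h := congrArg (Equiv.swap 0 i) e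
      rw [Equiv.swap_apply_self, Equiv.swap_apply_left] at h
      exact h.symm)
    have p0 : π 0 = i := by
      rw [hπ, Equiv.Perm.mul_apply, Equiv.swap_apply_of_ne_of_ne (by decide) hj'.symm,
        Equiv.swap_apply_left]
    have p1 : π 1 = j := by
      rw [hπ, Equiv.Perm.mul_apply, Equiv.swap_apply_left, Equiv.swap_apply_self]
    obtain ⟨y, hy, hwy, hyi⟩ := perm π x
    have hyp : Pt y := (Sim.pt_iff _).1 (hy.symm ▸ hx)
    have := (core_iff hD hprim h22 ha hc hac (C.comp (mon π (fun _ => 1) hone (RingEquiv.refl FF)))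
      (fun l hl => by
        simp only [Coord.comp_apply, Tpl]
        exact ⟨two _ (pl_pt (by simp) hl) (wpl (by simp) hl),
          two _ (pl_pt (by simp) hl) (wpl (by simp) hl),
          two _ (pl_pt (by simp) hl) (wpl (by simp) hl)⟩) hyp
      (by rw [hyi, p0, xi]) (by rw [hyi, p1, xj])).1 (by rwa [Coord.comp_apply, hy])
    omega
  -- one of weight six
  obtain ⟨z, hz, hzS, hz6⟩ : ∃ z, Pt z ∧ C.f z ∈ nb D a ∩ nb D c ∧ wt z = 6 := by
    by_contra hcon
    push Not at hcon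
    set P : Set Vec := {v | Pt v ∧ wt v = 2}
    have hPc : P.ncard = 135 := by
      rw [← card_two, ← Set.ncard_coe_finset]
      congr 1
      ext v
      simp [P]
    have himg := C.card_image (P := P) (fun v hv => hv.1) (fun v hv s hs =>
      ⟨hv.1.smul hs, by rw [wt_smul hs]; exact hv.2⟩)
    have hsub : nb D a ∩ nb D c ⊆ C.f '' P := by
      intro g hg
      obtain ⟨y, hy, rfl⟩ := C.cover g hg.1
      rcases wt_even y hy with h | h | h
      · exact ⟨y, ⟨hy, h⟩, rfl⟩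
      · exact absurd hg (four y hy h)
      · exact absurd h (hcon y hy hg)
    have := Set.ncard_le_ncard hsub (Set.toFinite _)
    rw [M22.ncard_inter hD hprim h22 ha hc hac] at this
    omega
  have hz0 := (wt_six_iff z).1 hz6
  have pt6 : ∀ {x : Vec}, (∀ i, x i ≠ 0) → Pt x := by
    intro x hx
    refine ⟨fun e => hx 0 (by rw [e]; rfl), ?_⟩
    rw [Cfsg.hermForm, Finset.sum_congr rfl fun i _ =>
      show x i * x i ^ 2 = 1 by rw [← pow_succ', cube _ (hx i)]]
    rw [Fin.sum_univ_six]; decide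
  have move : ∀ {y : Vec}, (∀ i, y i ≠ 0) → C.f y ∈ nb D a ∩ nb D c → ∀ {i j : Fin 6}, i ≠ j →
      ∀ {m : FF}, m ≠ 0 →
      C.f (Function.update (Function.update y i (m * y i)) j (m ^ 2 * y j)) ∈ nb D a ∩ nb D c := by
    intro y hy hyS i j hij m hm
    have e1 := C.line _ y (pl_pt hij hm) (pt6 hy)
    rw [tau_pl hij hm] at e1
    have h1 := conj_mem_inter hD (two _ (pl_pt hij hm) (wpl hij hm)) hyS
    rw [e1] at h1
    set y' := Function.update (Function.update y i (m ^ 2 * y j)) j (m * y i) with hy'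
    have hy0 : ∀ k, y' k ≠ 0 := by
      intro k
      rw [hy']
      by_cases hk : k = j
      · subst hk; simp [hm, hy i]
      by_cases hk' : k = i
      · subst hk'; simp [hk, hm, hy j]
      simp [hk, hk', hy k]
    have e2 := C.line _ y' (pl_pt hij one_ne_zero) (pt6 hy0)
    rw [tau_pl hij one_ne_zero] at e2
    have h2 := conj_mem_inter hD (two _ (pl_pt hij one_ne_zero) (wpl hij one_ne_zero)) h1
    rw [e2] at h2
    convert h2 using 2
    funext k
    rw [hy']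
    by_cases hk : k = j
    · subst hk; simp [hij]
    by_cases hk' : k = i
    · subst hk'; simp [hk]
    simp [hk, hk']
  -- the whole class
  have six : ∀ x : Vec, (∀ i, x i ≠ 0) → ∏ i, x i = ∏ i, z i → C.f x ∈ nb D a ∩ nb D c := by
    intro x hx hprod
    have key : ∀ k : ℕ, k ≤ 5 → ∃ y : Vec, (∀ i, y i ≠ 0) ∧ C.f y ∈ nb D a ∩ nb D c ∧
        ∏ i, y i = ∏ i, x i ∧ ∀ i : Fin 6, (i : ℕ) < k → y i = x i := by
      intro k
      induction k with
      | zero => exact fun _ => ⟨z, hz0, hzS, hprod.symm, fun i hi => absurd hi (Nat.not_lt_zero _)⟩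
      | succ k ih =>
        intro hk
        obtain ⟨y, hy, hyS, hp, hag⟩ := ih (by omega)
        obtain ⟨i, hi⟩ : ∃ i : Fin 6, (i : ℕ) = k := ⟨⟨k, by omega⟩, rfl⟩
        have hi5 : i ≠ 5 := fun e => by rw [e] at hi; simp at hi; omega
        have hm : x i * (y i)⁻¹ ≠ 0 := mul_ne_zero (hx i) (inv_ne_zero (hy i))
        refine ⟨_, ?_, move hy hyS hi5 hm, ?_, ?_⟩
        · intro t
          by_cases h5 : t = 5
          · subst h5; simp [hx i, hy i, hy 5]
          by_cases hti : t = i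
          · subst hti; simp [h5, hx t, hy t]
          simp [h5, hti, hy t]
        · rw [← hp, Finset.prod_update_of_mem (Finset.mem_univ _),
            ← Finset.mul_prod_erase Finset.univ y (Finset.mem_univ 5), ← Finset.sdiff_singleton_eq_erase,
            Finset.prod_update_of_mem (by simp [hi5]),
            ← Finset.mul_prod_erase (Finset.univ \ {5}) y (a := i) (by simp [hi5]),
            ← Finset.sdiff_singleton_eq_erase]
          rw [show ∀ A B C : FF, A ^ 2 * B * (A * y i * C) = A ^ 3 * (B * (y i * C)) from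
            fun A B C => by ring, cube _ hm, one_mul]
        · intro t ht
          have h5 : t ≠ 5 := fun e => by rw [e] at ht; simp at ht; omega
          by_cases hti : t = i
          · subst hti; simp [h5, hy t]
          · have : (t : ℕ) ≠ k := fun e => hti (Fin.ext (e.trans hi.symm))
            simp [h5, hti, hag t (by omega)]
    obtain ⟨y, hy, hyS, hp, hag⟩ := key 5 le_rfl
    have : y = x := by
      funext t
      by_cases h5 : (t : ℕ) < 5
      · exact hag t h5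
      have ht : t = 5 := Fin.ext (by have := t.2; simp; omega)
      subst ht
      rw [← Finset.mul_prod_erase Finset.univ y (Finset.mem_univ 5),
        ← Finset.mul_prod_erase Finset.univ x (Finset.mem_univ 5),
        Finset.prod_congr rfl fun i hi => hag i (by
          have h := Finset.ne_of_mem_erase hi
          have := i.2
          by_contra hh
          exact h (Fin.ext (by simp; omega)))] at hp
      exact mul_right_cancel₀ (Finset.prod_ne_zero_iff.2 fun i _ => hx i) hp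
    exact this ▸ hyS
  obtain ⟨δ, hδ⟩ : ∃ δ, δ = ∏ i, z i := ⟨_, rfl⟩
  set cc : Fin 6 → FF := Function.update (fun _ => 1) 0 δ
  have hcc : ∀ i, cc i ≠ 0 := by
    intro i
    by_cases h : i = 0
    · subst h; simp [cc, hδ, Finset.prod_ne_zero_iff, hz0]
    · simp [cc, h]
  refine ⟨(mon 1 cc hcc (RingEquiv.refl FF)).trans S₉, ?_⟩
  suffices hmain : ∀ v, Pt v →
      ((C.comp (mon 1 cc hcc (RingEquiv.refl FF))).f v ∈ nb D a ∩ nb D c ↔ Std v) by
    subst hC
    exact hmain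
  have hcoord : ∀ v i, (mon 1 cc hcc (RingEquiv.refl FF)).T v i = v i * cc i := fun v i => by
    have := mon_apply 1 cc hcc (RingEquiv.refl FF) v i
    simpa using this
  have hstd : ∀ v, Pt v → Std v →
      C.f ((mon 1 cc hcc (RingEquiv.refl FF)).T v) ∈ nb D a ∩ nb D c := by
    rintro v hv (h | ⟨h, hp⟩)
    · exact two _ (Sim.pt _ hv) (by rw [wt_mon]; exact h)
    · refine six _ (fun i => by rw [hcoord]; exact mul_ne_zero ((wt_six_iff v).1 h i) (hcc i)) ?_
      simp only [hcoord, Finset.prod_mul_distrib, hp, one_mul]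
      rw [← hδ]
      simp [cc, Finset.prod_update_of_mem]
  set C' := C.comp (mon 1 cc hcc (RingEquiv.refl FF)) with hC'
  set P : Set Vec := {v | Pt v ∧ Std v}
  have hPc : P.ncard = 378 := by
    rw [← card_std, ← Set.ncard_coe_finset]
    congr 1
    ext v
    simp [P]
  have himg := C'.card_image (P := P) (fun v hv => hv.1) (fun v hv s hs =>
    ⟨hv.1.smul hs, (std_smul hs v).2 hv.2⟩)
  have heq : C'.f '' P = nb D a ∩ nb D c := by
    refine Set.eq_of_subset_of_ncard_le ?_ ?_ (Set.toFinite _)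
    · rintro _ ⟨v, hv, rfl⟩
      exact hstd v hv.1 hv.2
    · rw [M22.ncard_inter hD hprim h22 ha hc hac]; omega
  intro v hv
  refine ⟨fun h => ?_, fun h => heq ▸ ⟨v, ⟨hv, h⟩, rfl⟩⟩
  rw [← heq] at h
  obtain ⟨y, hy, e⟩ := h
  obtain ⟨s, rfl⟩ := (C'.eq_iff y v hy.1 hv).1 e
  exact (std_smul (fun h0 => hv.1 (by rw [h0, zero_smul])) y).2 hy.2

/-- Coordinates at `a` in which the common neighbourhood is the standard set. -/
theorem exists_std : ∃ C : Coord D a, ∀ v, Pt v → (C.f v ∈ nb D a ∩ nb D c ↔ Std v) := by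
  obtain ⟨C₀⟩ := exists_coord hD h22 ha
  obtain ⟨S, hS⟩ := exists_std_sim hD hprim h22 ha hc hac C₀
  exact ⟨C₀.comp S, hS⟩

end Cfsg.Agent.ThreeTransp.M22Iso
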