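import Cfsg.Agent.Lib.ThreeTransp.M22Iso.Vec
import Cfsg.Agent.Lib.ThreeTransp.M22.Eighteen

/-!
Coordinates on the members commuting with one member of a group of type M(22), over the concrete
field with four elements.
-/

set_option autoImplicit false
set_option linter.unusedSectionVars false

namespace Cfsg.Agent.ThreeTransp.M22Iso

open Cfsg.Agent.Classical.Unitary
open Cfsg.Agent.Forms
open Cfsg.Agent.GroupStructure3.ThreeTransUnitary (tr tr_mulVec)
open Cfsg.Agent.InvChar.Coset (FF)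
open Cfsg.Agent.ThreeTransp
open Cfsg.Agent.ThreeTransp.Factor (nb mem_Hd)

local notation "H" => Cfsg.hermForm 6 FF 2

universe u

variable {G : Type u} [Group G] {D : Set G}

/-- Coordinates for the neighbours of `a`. -/
structure Coord (D : Set G) (a : G) where
  f : Vec → G
  mem : ∀ v, Pt v → f v ∈ nb D a
  cover : ∀ x ∈ nb D a, ∃ v, Pt v ∧ f v = x
  eq_iff : ∀ v w, Pt v → Pt w → (f v = f w ↔ ∃ c : FF, w = c • v)
  comm_iff : ∀ v w, Pt v → Pt w → (Commute (f v) (f w) ↔ H v w = 0)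
  line : ∀ u v, Pt u → Pt v → f u * f v * f u = f (τ u v)

namespace Coord

variable {a : G} (C : Coord D a)

/-- Coordinates changed by a similarity. -/
def comp (S : Sim) : Coord D a where
  f v := C.f (S.T v)
  mem _ hv := C.mem _ (S.pt hv)
  cover x hx := by
    obtain ⟨v, hv, rfl⟩ := C.cover x hx
    refine ⟨S.T.symm v, S.pt_iff.1 ?_, ?_⟩
    · rwa [Equiv.apply_symm_apply]
    · rw [Equiv.apply_symm_apply]
  eq_iff v w hv hw := (C.eq_iff _ _ (S.pt hv) (S.pt hw)).trans S.prop_iff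
  comm_iff v w hv hw := (C.comm_iff _ _ (S.pt hv) (S.pt hw)).trans S.form_zero
  line u v hu hv := by rw [C.line _ _ (S.pt hu) (S.pt hv), S.tau]

theorem comp_apply (S : Sim) (v : Vec) : (C.comp S).f v = C.f (S.T v) := rfl

theorem smul_eq {v : Vec} (hv : Pt v) {c : FF} (hc : c ≠ 0) : C.f (c • v) = C.f v :=
  ((C.eq_iff v (c • v) hv (hv.smul hc)).2 ⟨c, rfl⟩).symm

theorem mem_D {v : Vec} (hv : Pt v) : C.f v ∈ D := (C.mem v hv).1

theorem mem_nb {u v : Vec} (hu : Pt u) (hv : Pt v) :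
    C.f v ∈ nb D (C.f u) ↔ C.f v ≠ C.f u ∧ H u v = 0 := by
  rw [← C.comm_iff u v hu hv]
  exact ⟨fun h => ⟨h.2.1, h.2.2⟩, fun h => ⟨C.mem_D hv, h.1, h.2⟩⟩

/-- A set of vectors closed under non-zero multiples covers three vectors for each member. -/
theorem card_image {P : Set Vec} (hP : ∀ v ∈ P, Pt v)
    (hs : ∀ v ∈ P, ∀ c : FF, c ≠ 0 → c • v ∈ P) : P.ncard = 3 * (C.f '' P).ncard :=
  M22.Count.points hF4 C.f (fun v hv => (hP v hv).1) hs
    fun v hv w hw => C.eq_iff v w (hP v hv) (hP w hw)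

include C in
theorem finite_nb : (nb D a).Finite :=
  ((Set.toFinite (Set.univ : Set Vec)).image C.f).subset fun x hx => by
    obtain ⟨v, -, rfl⟩ := C.cover x hx
    exact ⟨v, Set.mem_univ _, rfl⟩

/-- The points orthogonal to a list of points. -/
theorem ncard_perp {l : List Vec} (hl : ∀ w ∈ l, Pt w) :
    3 * {y | y ∈ nb D a ∧ ∀ w ∈ l, Commute y (C.f w)}.ncard + 1 = (M22.Count.I l).ncard := by
  have h0 : (0 : Vec) ∈ M22.Count.I l := ⟨fun w _ => H_zero_left w, H_zero_left 0⟩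
  have himg : C.f '' (M22.Count.I l \ {0}) =
      {y | y ∈ nb D a ∧ ∀ w ∈ l, Commute y (C.f w)} := by
    ext y
    constructor
    · rintro ⟨v, ⟨⟨hv, hvv⟩, hv0⟩, rfl⟩
      have hp : Pt v := ⟨hv0, hvv⟩
      exact ⟨C.mem v hp, fun w hw => (C.comm_iff v w hp (hl w hw)).2 (hv w hw)⟩
    · rintro ⟨hy, hc⟩
      obtain ⟨v, hv, rfl⟩ := C.cover y hy
      exact ⟨v, ⟨⟨fun w hw => (C.comm_iff v w hv (hl w hw)).1 (hc w hw), hv.2⟩, hv.1⟩, rfl⟩
  rw [← himg, ← C.card_image (fun v hv => ⟨hv.2, hv.1.2⟩) ?_,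
    Set.ncard_diff_singleton_add_one h0 (Set.toFinite _)]
  rintro v ⟨⟨hv, hvv⟩, hv0⟩ c hc
  exact ⟨⟨M22.Count.K_smul c hv, by rw [H_smul_left, H_smul_right, hvv, mul_zero, mul_zero]⟩,
    smul_ne_zero hc hv0⟩

include C in
/-- Three points commute with two commuting non-commuting pairs, and no two of them commute. -/
theorem four_cross {x z p q : G} (hx : x ∈ nb D a) (hz : z ∈ nb D a) (hp : p ∈ nb D a)
    (hq : q ∈ nb D a) (hxz : ¬ Commute x z) (hpq : ¬ Commute p q) (hpx : Commute p x)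
    (hpz : Commute p z) (hqx : Commute q x) (hqz : Commute q z) :
    (nb D a ∩ nb D x ∩ nb D z ∩ nb D p ∩ nb D q).ncard = 3 ∧
      ∀ s ∈ nb D a ∩ nb D x ∩ nb D z ∩ nb D p ∩ nb D q,
      ∀ t ∈ nb D a ∩ nb D x ∩ nb D z ∩ nb D p ∩ nb D q, s ≠ t → ¬ Commute s t := by
  obtain ⟨u, hu, rfl⟩ := C.cover x hx
  obtain ⟨v, hv, rfl⟩ := C.cover z hz
  obtain ⟨b, hb, rfl⟩ := C.cover p hp
  obtain ⟨d, hd, rfl⟩ := C.cover q hq
  have huv : H u v ≠ 0 := fun e => hxz ((C.comm_iff u v hu hv).2 e)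
  have hbd : H b d ≠ 0 := fun e => hpq ((C.comm_iff b d hb hd).2 e)
  have hbu : H b u = 0 := (C.comm_iff b u hb hu).1 hpx
  have hbv : H b v = 0 := (C.comm_iff b v hb hv).1 hpz
  have hI : (M22.Count.I [d, b, v, u]).ncard = 10 := by
    have h40 := M22.Count.three_cross hF4 hu.2 hv.2 hu.1 huv hb.2 hb.1 hbu hbv
    have h4 := M22.Count.card_I_cross hF4 (u := b) (w := d) (l := [b, v, u]) (by simp) hb.2
      (by simp [M22.Count.K, hb.2, hbu, hbv]) hbd
    omega
  have hset : nb D a ∩ nb D (C.f u) ∩ nb D (C.f v) ∩ nb D (C.f b) ∩ nb D (C.f d) =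
      {y | y ∈ nb D a ∧ ∀ w ∈ [d, b, v, u], Commute y (C.f w)} := by
    ext y
    simp only [List.mem_cons, List.not_mem_nil, or_false, forall_eq_or_imp, forall_eq,
      Set.mem_setOf_eq, Set.mem_inter_iff]
    constructor
    · rintro ⟨⟨⟨⟨hy, -, -, cu⟩, -, -, cv⟩, -, -, cb⟩, -, -, cd⟩
      exact ⟨hy, cd.symm, cb.symm, cv.symm, cu.symm⟩
    · rintro ⟨hy, cd, cb, cv, cu⟩
      exact ⟨⟨⟨⟨hy, hy.1, fun e => hxz (e ▸ cv), cu.symm⟩, hy.1, fun e => hxz (e ▸ cu).symm,
        cv.symm⟩, hy.1, fun e => hpq (e ▸ cd), cb.symm⟩, hy.1, fun e => hpq (e ▸ cb).symm,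
        cd.symm⟩
  refine ⟨?_, ?_⟩
  · have := C.ncard_perp (l := [d, b, v, u]) (by simp [hu, hv, hb, hd])
    rw [hI, ← hset] at this
    omega
  rw [hset]
  rintro s ⟨hs, cs⟩ t ⟨ht, ct⟩ hne hst
  obtain ⟨y, hy, rfl⟩ := C.cover s hs
  obtain ⟨w, hw, rfl⟩ := C.cover t ht
  have hyw := (C.comm_iff y w hy hw).1 hst
  have hmem : ∀ r : FF × FF, r.1 • y + r.2 • w ∈ M22.Count.I [d, b, v, u] := by
    intro r
    refine ⟨fun k hk => ?_, ?_⟩
    · have hk' : Pt k := by
        simp only [List.mem_cons, List.not_mem_nil, or_false] at hk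
        rcases hk with rfl | rfl | rfl | rfl <;> assumption
      rw [H_add_left, H_smul_left, H_smul_left, (C.comm_iff y k hy hk').1 (cs k hk),
        (C.comm_iff w k hw hk').1 (ct k hk), mul_zero, mul_zero, add_zero]
    · simp only [H_add_left, H_add_right4, H_smul_left, H_smul_right, hy.2, hw.2, hyw,
        H_comm_zero.1 hyw, mul_zero, add_zero]
  have hinj : Function.Injective (fun r : FF × FF => r.1 • y + r.2 • w) := by
    intro r r' e
    have e' : (r.1 + r'.1) • y = (r.2 + r'.2) • w := by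
      funext i
      have e1 := congrFun e i
      simp only [Pi.add_apply, Pi.smul_apply, smul_eq_mul] at e1 ⊢
      linear_combination e1 + add_self (r'.1 * y i) - add_self (r.2 * w i)
    have h2 : r.2 + r'.2 = 0 := by
      by_contra h0
      exact hne ((C.eq_iff y w hy hw).2
        ⟨(r.2 + r'.2)⁻¹ * (r.1 + r'.1), by rw [mul_smul, e', inv_smul_smul₀ h0]⟩)
    rw [h2, zero_smul] at e'
    have h1 := (smul_eq_zero.1 e').resolve_right hy.1
    refine Prod.ext ?_ ?_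
    · linear_combination h1 - add_self r'.1
    · linear_combination h2 - add_self r'.2
  have h16 := Set.ncard_le_ncard (Set.range_subset_iff.2 hmem) (Set.toFinite _)
  rw [Set.ncard_range_of_injective hinj, hI, Nat.card_prod, Nat.card_eq_fintype_card] at h16
  simp [show Fintype.card FF = 4 from rfl] at h16

end Coord

variable [Finite G] (hD : Cfsg.IsThreeTranspositionGroup D) (h22 : Cfsg.IsOfTypeM22 G D)
include hD h22

/-- Coordinates exist. -/
theorem exists_coord {a : G} (ha : a ∈ D) : Nonempty (Coord D a) := by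
  obtain ⟨C⟩ := M22.exists_chart hD h22 ha
  let σ : FF ≃+* C.F := FiniteField.ringEquivOfCardEq (show Fintype.card FF = Fintype.card C.F by
    rw [C.hF]; rfl)
  let g : Vec → (Fin 6 → C.F) := fun v i => σ (v i)
  have gH : ∀ u v, Cfsg.hermForm 6 C.F 2 (g u) (g v) = σ (H u v) := fun u v => by
    simp [Cfsg.hermForm, g, map_sum]
  have gsm : ∀ (c : FF) v, g (c • v) = σ c • g v := fun c v => funext fun i => by simp [g]
  have ginj : ∀ {u v : Vec}, g u = g v → u = v := fun h => funext fun i => σ.injective (congrFun h i)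
  have gsurj : ∀ w : Fin 6 → C.F, g (fun i => σ.symm (w i)) = w := fun w =>
    funext fun i => by simp [g]
  have g0 : ∀ {v : Vec}, v ≠ 0 → g v ≠ 0 := fun hv e => hv (ginj (e.trans (funext fun i => by simp [g])))
  have giso : ∀ {v : Vec}, Pt v → Cfsg.hermForm 6 C.F 2 (g v) (g v) = 0 := fun hv => by
    rw [gH, hv.2, _root_.map_zero]
  refine ⟨⟨fun v => C.f (g v), fun v hv => C.mem _ (g0 hv.1) (giso hv), ?_, ?_, ?_, ?_⟩⟩
  · intro x hx
    obtain ⟨w, hw0, hw, rfl⟩ := C.cover x hx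
    refine ⟨fun i => σ.symm (w i), ⟨fun e => hw0 ?_, ?_⟩, by rw [gsurj]⟩
    · rw [← gsurj w, e]; funext i; simp [g]
    · have := gH (fun i => σ.symm (w i)) (fun i => σ.symm (w i))
      rw [gsurj, hw, eq_comm, RingEquiv.map_eq_zero_iff] at this
      exact this
  · intro v w hv hw
    rw [C.eq_iff _ _ (g0 hv.1) (giso hv) (g0 hw.1) (giso hw)]
    exact ⟨fun ⟨c, hc⟩ => ⟨σ.symm c, ginj (by rw [gsm, RingEquiv.apply_symm_apply, hc])⟩,
      fun ⟨c, hc⟩ => ⟨σ c, by rw [hc, gsm]⟩⟩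
  · intro v w hv hw
    rw [C.comm_iff _ _ (g0 hv.1) (giso hv) (g0 hw.1) (giso hw), gH, RingEquiv.map_eq_zero_iff]
  · intro u v hu hv
    have h := C.f_conj hD (C.img (g u) (g0 hu.1) (giso hu)) (g0 hv.1) (giso hv)
    rw [tr_mulVec, show ((⟨C.f (g u), mem_Hd (C.mem _ (g0 hu.1) (giso hu))⟩ :
      ↥(Factor.Hd D a)) : G) = C.f (g u) from rfl,
      Classes.inv hD (C.mem _ (g0 hu.1) (giso hu)).1] at h
    rw [h]
    congr 1
    rw [τ, gH]
    funext i
    simp [g]

end Cfsg.Agent.ThreeTransp.M22Iso
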