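import Cfsg.Agent.Lib.ThreeTransp.M22Iso.Quad
import Cfsg.Agent.Lib.ThreeTransp.M22.Stab

/-!
Maps between the neighbourhoods of two members, the action of the local subgroup in coordinates, and
frames.
-/

set_option autoImplicit false
set_option linter.unusedSectionVars false

namespace Cfsg.Agent.ThreeTransp.M22Iso

open Matrix
open Cfsg.Agent.Classical.Unitary
open Cfsg.Agent.Forms
open Cfsg.Agent.GroupStructure3.ThreeTransUnitary (tr tr_mulVec)
open Cfsg.Agent.InvChar.Coset (FF)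
open Cfsg.Agent.ThreeTransp
open Cfsg.Agent.ThreeTransp.Factor (nb Hd mem_Hd)
open Cfsg.Agent.ThreeTransp.UnitaryPoints (near)

local notation "H" => Cfsg.hermForm 6 FF 2

universe u v

variable {G : Type u} [Group G] {D : Set G} {G' : Type v} [Group G'] {D' : Set G'}

theorem Pt.mat {v : Vec} (h : Pt v) (g : Cfsg.SU 6 FF 2) : Pt (Classical.Unitary.mat g *ᵥ v) :=
  ⟨mat_mulVec_ne_zero g h.1, by rw [SU_H, h.2]⟩

theorem mat_tr {u : Vec} (hu : H u u = 0) (v : Vec) : mat (tr hF4 hu) *ᵥ v = τ u v :=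
  tr_mulVec hF4 hu v

/-- The similarity of a group element. -/
noncomputable def simSU (g : Cfsg.SU 6 FF 2) : Sim where
  T := {
    toFun := fun v => mat g *ᵥ v
    invFun := fun v => mat g⁻¹ *ᵥ v
    left_inv := fun v => inv_mulVec g rfl
    right_inv := fun v => by
      show mat g *ᵥ (mat g⁻¹ *ᵥ v) = v
      rw [← mul_mulVec, mul_inv_cancel, mat_one, one_mulVec] }
  σ := RingEquiv.refl FF
  add u v := Matrix.mulVec_add _ u v
  smul c v := Matrix.mulVec_smul _ c v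
  form u v := SU_H g u v

theorem indep_pair {u v : Vec} (hu : Pt u) (huv : H u v ≠ 0) :
    LinearIndependent FF ![u, v] := by
  rw [LinearIndependent.pair_iff]
  intro x y hxy
  have h := congrArg (fun z => H z u) hxy
  simp only [H_add_left, H_smul_left, hu.2, mul_zero, zero_add, H_zero_left] at h
  have hy : y = 0 := (mul_eq_zero.1 h).resolve_right fun e => huv (H_comm_zero.1 e)
  rw [hy, zero_smul, add_zero] at hxy
  exact ⟨(smul_eq_zero.1 hxy).resolve_right hu.1, hy⟩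

/-- A similarity carrying the standard pair to a given one. -/
theorem exists_frame {u v : Vec} (hu : Pt u) (hv : Pt v) (huv : H u v ≠ 0) :
    ∃ S : Sim, (∃ s : FF, s ≠ 0 ∧ S.T (pl 0 1 1) = s • u) ∧
      ∃ s : FF, s ≠ 0 ∧ S.T (pl 0 1 FF.w) = s • v := by
  have h0 : Pt (pl 0 1 1) := pl_pt (by decide) one_ne_zero
  have h1 : Pt (pl 0 1 FF.w) := pl_pt (by decide) (by decide)
  have h01 : H (pl 0 1 1) (pl 0 1 FF.w) ≠ 0 := by decide
  obtain ⟨k, s, t, hs, ht⟩ := exists_su_pair hF4 h0.2 h1.2 hu.2 hv.2 (indep_pair h0 h01)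
    (indep_pair hu huv) (iff_of_false h01 huv)
  exact ⟨simSU k, ⟨s, hu.smul_ne (h0.mat k) hs, hs⟩, t, hv.smul_ne (h1.mat k) ht, ht⟩

/-- A map between the neighbourhoods of two members preserving everything visible there. -/
structure IsBall (D : Set G) (a : G) (D' : Set G') (a' : G') (θ : G → G') : Prop where
  maps : ∀ x ∈ nb D a, θ x ∈ nb D' a'
  inj : ∀ x ∈ nb D a, ∀ y ∈ nb D a, θ x = θ y → x = y
  surj : ∀ y ∈ nb D' a', ∃ x ∈ nb D a, θ x = y
  comm : ∀ x ∈ nb D a, ∀ y ∈ nb D a, (Commute (θ x) (θ y) ↔ Commute x y)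
  line : ∀ x ∈ nb D a, ∀ y ∈ nb D a, θ (x * y * x) = θ x * θ y * θ x

/-- The map carrying one system of coordinates to the other. -/
theorem exists_ball {a : G} {a' : G'} (C : Coord D a) (C' : Coord D' a') :
    ∃ θ : G → G', IsBall D a D' a' θ ∧ ∀ v, Pt v → θ (C.f v) = C'.f v := by
  classical
  let θ : G → G' := fun x => if h : x ∈ nb D a then C'.f (C.cover x h).choose else 1
  have key : ∀ v, Pt v → θ (C.f v) = C'.f v := by
    intro v hv
    have hx := C.mem v hv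
    obtain ⟨hp, he⟩ := (C.cover _ hx).choose_spec
    simp only [θ, dif_pos hx]
    exact (C'.eq_iff _ _ hp hv).2 ((C.eq_iff _ _ hp hv).1 he)
  refine ⟨θ, ⟨?_, ?_, ?_, ?_, ?_⟩, key⟩
  · intro x hx
    obtain ⟨v, hv, rfl⟩ := C.cover x hx
    rw [key v hv]; exact C'.mem v hv
  · intro x hx y hy e
    obtain ⟨v, hv, rfl⟩ := C.cover x hx
    obtain ⟨w, hw, rfl⟩ := C.cover y hy
    rw [key v hv, key w hw] at e
    exact (C.eq_iff v w hv hw).2 ((C'.eq_iff v w hv hw).1 e)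
  · intro y hy
    obtain ⟨v, hv, rfl⟩ := C'.cover y hy
    exact ⟨C.f v, C.mem v hv, key v hv⟩
  · intro x hx y hy
    obtain ⟨v, hv, rfl⟩ := C.cover x hx
    obtain ⟨w, hw, rfl⟩ := C.cover y hy
    rw [key v hv, key w hw, C.comm_iff v w hv hw, C'.comm_iff v w hv hw]
  · intro x hx y hy
    obtain ⟨v, hv, rfl⟩ := C.cover x hx
    obtain ⟨w, hw, rfl⟩ := C.cover y hy
    rw [C.line v w hv hw, key _ (Pt.tau hv.2 hw), key v hv, key w hw, C'.line v w hv hw]

namespace Coord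

variable {a : G} (C : Coord D a)

/-- The subgroup of the members in the neighbourhood commuting with a given member. -/
def stabGens (D : Set G) (a x : G) : Subgroup G :=
  Subgroup.closure {y | y ∈ nb D a ∧ Commute y x}

variable (hD : Cfsg.IsThreeTranspositionGroup D)
include hD

/-- Elements of the local subgroup act linearly. -/
theorem act {h : G} (hh : h ∈ Hd D a) :
    ∃ g : Cfsg.SU 6 FF 2, ∀ v, Pt v → h * C.f v * h⁻¹ = C.f (mat g *ᵥ v) := by
  have gen : ∀ y ∈ nb D a, ∃ g : Cfsg.SU 6 FF 2,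
      ∀ v, Pt v → y * C.f v * y⁻¹ = C.f (mat g *ᵥ v) := by
    intro y hy
    obtain ⟨u, hu, rfl⟩ := C.cover y hy
    refine ⟨tr hF4 hu.2, fun v hv => ?_⟩
    rw [Classes.inv hD (C.mem u hu).1, mat_tr, C.line u v hu hv]
  induction hh using Subgroup.closure_induction'' with
  | mem y hy => exact gen y hy
  | inv_mem y hy => rw [Classes.inv hD hy.1]; exact gen y hy
  | one => exact ⟨1, fun v _ => by rw [mat_one, one_mulVec, one_mul, inv_one, mul_one]⟩
  | mul p q _ _ hp hq =>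
    obtain ⟨g, hg⟩ := hp
    obtain ⟨k, hk⟩ := hq
    refine ⟨g * k, fun v hv => ?_⟩
    rw [mul_mulVec, ← hg _ (hv.mat k), ← hk v hv]
    group

/-- Transvections fixing a point are realised by members commuting with it. -/
theorem lift {A : Vec} (hA : Pt A) {k : Cfsg.SU 6 FF 2} (hk : k ∈ near hF4 A) :
    ∃ h ∈ stabGens D a (C.f A), ∀ v, Pt v → h * C.f v * h⁻¹ = C.f (mat k *ᵥ v) := by
  induction hk using Subgroup.closure_induction'' with
  | mem t ht =>
    obtain ⟨w, hw, hwA, rfl⟩ := ht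
    by_cases hw0 : w = 0
    · refine ⟨1, one_mem _, fun v _ => ?_⟩
      rw [mat_tr, τ, hw0, smul_zero, add_zero, one_mul, inv_one, mul_one]
    have hp : Pt w := ⟨hw0, hw⟩
    refine ⟨C.f w, Subgroup.subset_closure ⟨C.mem w hp, (C.comm_iff w A hp hA).2 hwA⟩,
      fun v hv => ?_⟩
    rw [mat_tr, Classes.inv hD (C.mem w hp).1, C.line w v hp hv]
  | inv_mem t ht =>
    obtain ⟨w, hw, hwA, rfl⟩ := ht
    by_cases hw0 : w = 0
    · refine ⟨1, one_mem _, fun v hv => ?_⟩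
      have e : ∀ x, mat (tr hF4 hw) *ᵥ x = x := fun x => by
        rw [mat_tr, τ, hw0, smul_zero, add_zero]
      rw [inv_mulVec _ (e v), one_mul, inv_one, mul_one]
    have hp : Pt w := ⟨hw0, hw⟩
    refine ⟨C.f w, Subgroup.subset_closure ⟨C.mem w hp, (C.comm_iff w A hp hA).2 hwA⟩,
      fun v hv => ?_⟩
    have hh : τ w (τ w v) = v := by
      rw [← mat_tr hw, ← mat_tr hw]
      simp only [mat_tr, τ, H_add_left, H_smul_left, hw, mul_zero, add_zero]
      rw [add_assoc, vec_add_self, add_zero]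
    rw [inv_mulVec (tr hF4 hw) (u := τ w v) (v := v) (by rw [mat_tr, hh]),
      Classes.inv hD (C.mem w hp).1, C.line w v hp hv]
  | one => exact ⟨1, one_mem _, fun v _ => by rw [mat_one, one_mulVec, one_mul, inv_one, mul_one]⟩
  | mul p q _ _ hp hq =>
    obtain ⟨h, hh, he⟩ := hp
    obtain ⟨k, hk, hke⟩ := hq
    refine ⟨h * k, mul_mem hh hk, fun v hv => ?_⟩
    rw [mul_mulVec, ← he _ (hv.mat q), ← hke v hv]
    group

/-- The elements fixing a point. -/
theorem stab {A : Vec} (hA : Pt A) (ha : a ∈ stabGens D a (C.f A))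
    (hcen : ∀ z ∈ Hd D a, (∀ x ∈ nb D a, Commute z x) → z ∈ Subgroup.zpowers a) {h : G}
    (hh : h ∈ Hd D a) (hc : Commute h (C.f A)) : h ∈ stabGens D a (C.f A) := by
  obtain ⟨g, hg⟩ := C.act hD hh
  have e := hg A hA
  rw [show h * C.f A * h⁻¹ = C.f A from mul_inv_eq_iff_eq_mul.2 hc.eq] at e
  obtain ⟨c, hgA⟩ := (C.eq_iff _ _ hA (hA.mat g)).1 e
  obtain ⟨k, hk, hkg⟩ := M22.Stab.point_stab hF4 hA.2 hA.1 hgA
  obtain ⟨a', ha'⟩ := (mem_center_iff hF4 (by norm_num) (k⁻¹ * g)).1 (QuotientGroup.eq.1 hkg)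
  obtain ⟨h', hh', he⟩ := C.lift hD hA hk
  have hsub : stabGens D a (C.f A) ≤ Hd D a := Subgroup.closure_mono fun y hy => hy.1
  have hz : h'⁻¹ * h ∈ Subgroup.zpowers a := by
    refine hcen _ (mul_mem (inv_mem (hsub hh')) hh) fun x hx => ?_
    obtain ⟨v, hv, rfl⟩ := C.cover x hx
    have e1 : mat g *ᵥ v = mat k *ᵥ (a' • v) := by
      rw [← one_mulVec v, ← smul_mulVec, ← ha', one_mulVec, ← mul_mulVec, mul_inv_cancel_left]
    have ha0 : a' ≠ 0 := fun e0 => (hv.mat g).1 (by rw [e1, e0, zero_smul, Matrix.mulVec_zero])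
    have e2 : h * C.f v * h⁻¹ = h' * C.f v * h'⁻¹ := by
      rw [hg v hv, he v hv, e1, Matrix.mulVec_smul, C.smul_eq (hv.mat k) ha0]
    refine mul_inv_eq_iff_eq_mul.1 ?_
    calc h'⁻¹ * h * C.f v * (h'⁻¹ * h)⁻¹ = h'⁻¹ * (h * C.f v * h⁻¹) * h' := by group
      _ = C.f v := by rw [e2]; group
  have := mul_mem hh' ((Subgroup.zpowers_le.2 ha) hz)
  rwa [mul_inv_cancel_left] at this

/-- Transitivity on the points not orthogonal to a given one. -/
theorem trans {A v w : Vec} (hA : Pt A) (hv : Pt v) (hw : Pt w) (hvA : H A v ≠ 0)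
    (hwA : H A w ≠ 0) : ∃ h ∈ stabGens D a (C.f A), h * C.f v * h⁻¹ = C.f w := by
  obtain ⟨g, s, t, hs, ht⟩ := exists_su_pair hF4 hA.2 hv.2 hA.2 hw.2 (indep_pair hA hvA)
    (indep_pair hA hwA) (iff_of_false hvA hwA)
  obtain ⟨k, hk, hkg⟩ := M22.Stab.point_stab hF4 hA.2 hA.1 hs
  obtain ⟨c, hc⟩ := (mem_center_iff hF4 (by norm_num) (k⁻¹ * g)).1 (QuotientGroup.eq.1 hkg)
  obtain ⟨h, hh, he⟩ := C.lift hD hA hk
  refine ⟨h, hh, ?_⟩
  have e1 : t • w = mat k *ᵥ (c • v) := by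
    rw [← ht, ← one_mulVec v, ← smul_mulVec, ← hc, one_mulVec, ← mul_mulVec, mul_inv_cancel_left]
  have ht0 : t ≠ 0 := hw.smul_ne (hv.mat g) ht
  have hc0 : c ≠ 0 := fun e0 => (hw.smul ht0).1 (by rw [e1, e0, zero_smul, Matrix.mulVec_zero])
  rw [he v hv, ← C.smul_eq (hv.mat k) hc0, ← Matrix.mulVec_smul, ← e1, C.smul_eq hw ht0]

end Coord

end Cfsg.Agent.ThreeTransp.M22Iso
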