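import Cfsg.Agent.Lib.ThreeTransp.M22Iso.Ball

/-!
A map between the neighbourhoods of two members extends to a member of the neighbourhood, with
prescribed values at the member itself and at one outer member.
-/

set_option autoImplicit false
set_option linter.unusedSectionVars false

namespace Cfsg.Agent.ThreeTransp.M22Iso

open Cfsg.Agent.Classical.Unitary
open Cfsg.Agent.Forms
open Cfsg.Agent.InvChar.Coset (FF)
open Cfsg.Agent.ThreeTransp
open Cfsg.Agent.ThreeTransp.Factor (nb)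
open Cfsg.Agent.ThreeTransp.Cover (mem_nb_symm)

local notation "H" => Cfsg.hermForm 6 FF 2
local notation "A₀" => pl 0 1 (1 : FF)
local notation "B₀" => pl 0 1 FF.w

universe u v

variable {G : Type u} [Group G] {D : Set G} {G' : Type v} [Group G'] {D' : Set G'}

theorem A₀_pt : Pt A₀ := pl_pt (by decide) one_ne_zero

theorem B₀_pt : Pt B₀ := pl_pt (by decide) (by decide)

theorem H_A₀ (z : Vec) : H z A₀ = z 0 + z 1 := by rw [H_pl, one_pow, one_mul]

theorem A₀_coord : A₀ 0 = 1 ∧ A₀ 1 = 1 ∧ A₀ 2 = 0 ∧ A₀ 3 = 0 ∧ A₀ 4 = 0 ∧ A₀ 5 = 0 := by decide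

/-- The multiples of the weight-two points on the last four coordinates. -/
def low : List Vec :=
  [(2, 3), (2, 4), (2, 5), (3, 4), (3, 5), (4, 5)].flatMap fun p : Fin 6 × Fin 6 =>
    [(1 : FF), FF.w, FF.w2].flatMap fun l => [(1 : FF), FF.w, FF.w2].map fun s => s • pl p.1 p.2 l

theorem low_wpt : ∀ m ∈ low, WPt m := by
  intro m hm
  simp only [low, List.mem_flatMap, List.mem_map] at hm
  obtain ⟨p, hp, l, hl, s, hs, rfl⟩ := hm
  have hl0 : ∀ r ∈ [(1 : FF), FF.w, FF.w2], r ≠ 0 := by decide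
  have hp0 : ∀ r ∈ ([(2, 3), (2, 4), (2, 5), (3, 4), (3, 5), (4, 5)] : List (Fin 6 × Fin 6)),
      r.1 ≠ r.2 ∧ 2 ≤ (r.1 : ℕ) ∧ 2 ≤ (r.2 : ℕ) := by decide
  obtain ⟨h1, h2, h3⟩ := hp0 p hp
  exact (pl_wpt h1 h2 h3 (hl0 l hl)).smul (hl0 s hs)

set_option maxRecDepth 100000 in
theorem chain_low : ∀ b c d e : FF, b ^ 3 + c ^ 3 + d ^ 3 + e ^ 3 = 0 →
    ¬ (b = 0 ∧ c = 0 ∧ d = 0 ∧ e = 0) →
    (∃ m ∈ low, H ![0, 0, b, c, d, e] m = 1 ∧ H m (pl 2 3 1) = 1) ∨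
    ∃ m ∈ low, H ![0, 0, b, c, d, e] m = 1 ∧ ∃ m' ∈ low, H m m' = 1 ∧ H m' (pl 2 3 1) = 1 := by
  decide +kernel

/-- The part on the last four coordinates of a point orthogonal to the first frame point. -/
theorem split {u : Vec} (hu : Pt u) (h : H u A₀ = 0) :
    ∃ w : Vec, u = u 0 • A₀ + w ∧ w 0 = 0 ∧ w 1 = 0 ∧ (w = 0 ∨ WPt w) := by
  rw [H_A₀] at h
  have h1 : u 1 = u 0 := by linear_combination h - add_self (u 0)
  refine ⟨u + u 0 • A₀, ?_, ?_, ?_, ?_⟩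
  · rw [add_comm u, ← add_assoc, vec_add_self, zero_add]
  · simp [pl, add_self]
  · simp [pl, h1, add_self]
  · by_cases h0 : u + u 0 • A₀ = 0
    · exact Or.inl h0
    refine Or.inr ⟨⟨h0, ?_⟩, by simp [pl, add_self], by simp [pl, h1, add_self]⟩
    rw [H_add_left, H_add_right4, H_add_right4, H_smul_left, H_smul_left, H_smul_right, H_smul_right,
      hu.2, H_A₀ u, h, A₀_pt.2, H_comm_zero.1 (show H u A₀ = 0 by rw [H_A₀, h])]
    simp

theorem H_shift {w z : Vec} (l : FF) (hz0 : z 0 = 0) (hz1 : z 1 = 0) :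
    H (l • A₀ + w) z = H w z := by
  have : H A₀ z = 0 := H_comm_zero.1 (by rw [H_A₀, hz0, hz1, add_zero])
  rw [H_add_left, H_smul_left, this, mul_zero, zero_add]

theorem shift_pt {w : Vec} (hw : WPt w) (l : FF) : Pt (l • A₀ + w) := by
  have h1 : H w A₀ = 0 := by rw [H_A₀, hw.2.1, hw.2.2, add_zero]
  refine ⟨fun e => hw.1.1 ?_, ?_⟩
  · have h0 := congrFun e 0
    simp [pl, hw.2.1] at h0
    rwa [h0, zero_smul, zero_add] at e
  · rw [H_add_left, H_add_right4, H_add_right4, H_smul_left, H_smul_left, H_smul_right, H_smul_right,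
      A₀_pt.2, hw.1.2, h1, H_comm_zero.1 h1]
    simp

theorem shift_not_line {w : Vec} (hw : WPt w) (l s : FF) : l • A₀ + w ≠ s • A₀ := fun e => by
  refine hw.1.1 (funext fun i => ?_)
  have h := congrFun e i
  fin_cases i
  · exact hw.2.1
  · exact hw.2.2
  all_goals simpa [pl] using h

theorem shift_inj {w : Vec} (hw : WPt w) {l l' c : FF} (e : l' • A₀ + w = c • (l • A₀ + w)) :
    l' = l := by
  have hc : c = 1 := by
    by_contra hc
    refine hw.1.1 (funext fun i => ?_)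
    have h := congrFun e i
    fin_cases i
    · exact hw.2.1
    · exact hw.2.2
    all_goals
      simp [pl] at h
      by_contra hi
      exact hc (mul_right_cancel₀ hi (h.symm.trans (one_mul _).symm))
  have h := congrFun e 0
  simpa [pl, hw.2.1, hc] using h

namespace Coord

variable {x a c : G} (C : Coord D x)

/-- The common neighbours of the frame. -/
theorem wset (hA : C.f A₀ = a) (hB : C.f B₀ = c) {v : Vec} (hv : Pt v) :
    C.f v ∈ nb D a ∩ nb D c ↔ WPt v := by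
  have hAv := C.comm_iff v A₀ hv A₀_pt
  have hBv := C.comm_iff v B₀ hv B₀_pt
  rw [hA, H_A₀] at hAv
  rw [hB, H_pl] at hBv
  constructor
  · intro h
    exact ⟨hv, pair_cases _ _ (hAv.1 h.1.2.2.symm) (hBv.1 h.2.2.2.symm)⟩
  · intro h
    obtain ⟨-, h0, h1⟩ := h
    refine ⟨⟨C.mem_D hv, fun e => ?_, (hAv.2 (by rw [h0, h1, add_zero])).symm⟩,
      C.mem_D hv, fun e => ?_, (hBv.2 (by rw [h0, h1, mul_zero, add_zero])).symm⟩
    · rw [← hA] at e
      obtain ⟨s, hs⟩ := (C.eq_iff v _ hv A₀_pt).1 e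
      simpa [pl, h0] using congrFun hs 0
    · rw [← hB] at e
      obtain ⟨s, hs⟩ := (C.eq_iff v _ hv B₀_pt).1 e
      simpa [pl, h0] using congrFun hs 0

end Coord

variable [Finite G] [Finite G'] (hD : Cfsg.IsThreeTranspositionGroup D)
  (h22 : Cfsg.IsOfTypeM22 G D) (hD' : Cfsg.IsThreeTranspositionGroup D')
  (h22' : Cfsg.IsOfTypeM22 G' D')

include hD h22 in
/-- Coordinates with two prescribed frame points. -/
theorem exists_framed {x a c : G} (hx : x ∈ D) (ha : a ∈ nb D x) (hc : c ∈ nb D x)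
    (hac : ¬ Commute a c) : ∃ C : Coord D x, C.f A₀ = a ∧ C.f B₀ = c := by
  obtain ⟨C⟩ := exists_coord hD h22 hx
  obtain ⟨u, hu, rfl⟩ := C.cover a ha
  obtain ⟨v, hv, rfl⟩ := C.cover c hc
  obtain ⟨S, ⟨s, hs, eA⟩, t, ht, eB⟩ :=
    exists_frame hu hv fun e => hac ((C.comm_iff u v hu hv).2 e)
  exact ⟨C.comp S, by rw [Coord.comp_apply, eA, C.smul_eq hu hs],
    by rw [Coord.comp_apply, eB, C.smul_eq hv ht]⟩

include hD h22 hD' h22' in
/-- The extension. -/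
theorem exists_ext {a c x : G} {a' c' : G'} {θ : G → G'} (ha : a ∈ D) (hc : c ∈ D)
    (hac : ¬ Commute a c) (ha' : a' ∈ D') (hc' : c' ∈ D') (hac' : ¬ Commute a' c')
    (hθ : IsBall D a D' a' θ) (hx : x ∈ nb D a ∩ nb D c)
    (hS : ∀ q ∈ nb D a, (θ q ∈ nb D' c' ↔ q ∈ nb D c)) :
    ∃ φ : G → G', IsBall D x D' (θ x) φ ∧ (∀ q ∈ nb D a ∩ nb D x, φ q = θ q) ∧
      φ a = a' ∧ φ c = c' := by
  classical
  have hxa := hθ.maps x hx.1
  have hxc : θ x ∈ nb D' c' := (hS x hx.1).2 hx.2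
  obtain ⟨C, hA, hB⟩ := exists_framed hD h22 hx.1.1 (mem_nb_symm ha hx.1)
    (mem_nb_symm hc hx.2) hac
  obtain ⟨C', hA', hB'⟩ := exists_framed hD' h22' hxa.1 (mem_nb_symm ha' hxa)
    (mem_nb_symm hc' hxc) hac'
  -- images of common neighbours
  have img : ∀ q ∈ nb D a, q ∈ nb D x → θ q ∈ nb D' (θ x) := fun q hq hqx =>
    ⟨(hθ.maps q hq).1, fun e => hqx.2.1 (hθ.inj q hq x hx.1 e), (hθ.comm x hx.1 q hq).2 hqx.2.2⟩
  have hψ0 : ∀ w : Vec, ∃ v : Vec, WPt w → WPt v ∧ C'.f v = θ (C.f w) := by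
    intro w
    by_cases hw : WPt w
    · have h := (C.wset hA hB hw.1).2 hw
      have hq := C.mem w hw.1
      obtain ⟨v, hv, hfv⟩ := C'.cover _ (img _ h.1 hq)
      exact ⟨v, fun _ => ⟨(C'.wset hA' hB' hv).1
        (hfv ▸ ⟨hθ.maps _ h.1, (hS _ h.1).2 h.2⟩), hfv⟩⟩
    · exact ⟨w, fun h => absurd h hw⟩
  choose ψ hψ using hψ0
  have inA : ∀ {w : Vec}, WPt w → C.f w ∈ nb D a := fun {w} hw => ((C.wset hA hB hw.1).2 hw).1
  have hQ : QMap ψ := by
    refine ⟨fun w hw => (hψ w hw).1, fun u v hu hv => ?_, fun v hv s hs => ?_, fun u v hu hv => ?_⟩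
    · rw [← C'.comm_iff _ _ (hψ u hu).1.1 (hψ v hv).1.1, (hψ u hu).2, (hψ v hv).2,
        hθ.comm _ (inA hu) _ (inA hv), C.comm_iff u v hu.1 hv.1]
    · have h1 := hψ _ (hv.smul hs)
      rw [C.smul_eq hv.1 hs, ← (hψ v hv).2] at h1
      exact (C'.eq_iff _ _ (hψ v hv).1.1 h1.1.1).1 h1.2.symm
    · have h1 := hψ _ (hu.tau hv)
      rw [← C.line u v hu.1 hv.1, hθ.line _ (inA hu) _ (inA hv), ← (hψ u hu).2, ← (hψ v hv).2,
        C'.line _ _ (hψ u hu).1.1 (hψ v hv).1.1] at h1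
      exact (C'.eq_iff _ _ ((hψ v hv).1.1.tau (hψ u hu).1.1.2) h1.1.1).1 h1.2.symm
  obtain ⟨S, ⟨sA, hsA, eA⟩, ⟨sB, hsB, eB⟩, hST⟩ := quad hQ
  obtain ⟨C1, hA1, hB1, hW1⟩ : ∃ C1 : Coord D' (θ x), C1.f A₀ = a' ∧ C1.f B₀ = c' ∧
      ∀ w, WPt w → C1.f w = θ (C.f w) := by
    refine ⟨C'.comp S, by rw [Coord.comp_apply, eA, C'.smul_eq A₀_pt hsA, hA'],
      by rw [Coord.comp_apply, eB, C'.smul_eq B₀_pt hsB, hB'], fun w hw => ?_⟩
    obtain ⟨hw', s, hs⟩ := hST w hw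
    have hs0 : s ≠ 0 := hw'.1.smul_ne (hψ w hw).1.1 hs
    rw [Coord.comp_apply, ← C'.smul_eq hw'.1 hs0, ← hs, (hψ w hw).2]
  -- shifted points
  have inA' : ∀ {w : Vec}, WPt w → ∀ l : FF, C.f (l • A₀ + w) ∈ nb D a := fun {w} hw l =>
    ⟨C.mem_D (shift_pt hw l), fun e => by
      rw [← hA] at e
      obtain ⟨s, hs⟩ := (C.eq_iff _ _ A₀_pt (shift_pt hw l)).1 e.symm
      exact shift_not_line hw l s hs,
     ((C.comm_iff _ _ (shift_pt hw l) A₀_pt).2 (by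
        rw [H_add_left, H_smul_left, A₀_pt.2, H_A₀, hw.2.1, hw.2.2]; simp)).symm |> (hA ▸ ·)⟩
  have hF0 : ∀ w : Vec, ∀ l : FF, ∃ m : FF,
      WPt w → θ (C.f (l • A₀ + w)) = C1.f (m • A₀ + w) := by
    intro w l
    by_cases hw : WPt w
    swap
    · exact ⟨0, fun h => absurd h hw⟩
    have hq := inA' hw l
    obtain ⟨u, hu, hfu⟩ := C1.cover _ (img _ hq (C.mem _ (shift_pt hw l)))
    have huA : H u A₀ = 0 := (C1.comm_iff u A₀ hu A₀_pt).1 (by
      rw [hfu, hA1]; exact (hθ.maps _ hq).2.2.symm)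
    obtain ⟨w', hu', w'0, w'1, hw'⟩ := split hu huA
    rcases hw' with h0 | hw'
    · exfalso
      rw [h0, add_zero] at hu'
      have hu0 : u 0 ≠ 0 := A₀_pt.smul_ne hu hu'
      refine (hθ.maps _ hq).2.1 ?_
      rw [← hfu, hu', C1.smul_eq A₀_pt hu0, hA1]
    obtain ⟨s, hs⟩ := prop_of_perp hw hw' fun i j hij hi hj k hk => by
      have hz := pl_wpt hij hi hj hk
      have h1 := hθ.comm _ hq _ (inA hz)
      rw [← hfu, ← hW1 _ hz, C1.comm_iff _ _ hu hz.1, C.comm_iff _ _ (shift_pt hw l) hz.1, hu',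
        H_shift _ hz.2.1 hz.2.2, H_shift _ hz.2.1 hz.2.2] at h1
      exact h1.symm
    have hs0 : s ≠ 0 := hw.1.smul_ne hw'.1 hs
    refine ⟨s⁻¹ * u 0, fun _ => ?_⟩
    rw [← hfu, ← C1.smul_eq hu (inv_ne_zero hs0), hu', smul_add, smul_smul, hs, smul_smul,
      inv_mul_cancel₀ hs0, one_smul]
    simp [pl, hw.2.1]
  choose F hF using hF0
  have uniq : ∀ {w : Vec}, WPt w → ∀ {l m : FF},
      θ (C.f (l • A₀ + w)) = C1.f (m • A₀ + w) → F w l = m := by
    intro w hw l m h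
    rw [hF w l hw] at h
    obtain ⟨s, hs⟩ := (C1.eq_iff _ _ (shift_pt hw _) (shift_pt hw _)).1 h
    exact (shift_inj hw hs).symm
  have Fscale : ∀ {w : Vec}, WPt w → ∀ s l : FF, s ≠ 0 → F (s • w) (s * l) = s * F w l := by
    intro w hw s l hs
    refine uniq (hw.smul hs) ?_
    rw [mul_smul, mul_smul, ← smul_add, ← smul_add, C.smul_eq (shift_pt hw l) hs,
      C1.smul_eq (shift_pt hw _) hs, hF w l hw]
  have Fstep : ∀ {w y : Vec}, WPt w → WPt y → H w y = 1 → ∀ l : FF, F y l = F w l := by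
    intro w y hw hy hwy l
    have hz : WPt (w + y) := by
      refine ⟨⟨fun e => ?_, ?_⟩, by simp [hw.2.1, hy.2.1], by simp [hw.2.2, hy.2.2]⟩
      · have h := congrArg (fun z => H z y) e
        simp only [H_add_left, hwy, hy.1.2, add_zero, H_zero_left] at h
        exact one_ne_zero h
      · rw [H_add_left, H_add_right4, H_add_right4, hw.1.2, hy.1.2, hwy, ← H_conj4 w y, hwy]
        decide
    have hwz : H w (w + y) = 1 := by rw [H_add_right4, hw.1.2, hwy, zero_add]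
    have key : ∀ m : FF, τ (w + y) (m • A₀ + w) = m • A₀ + y := by
      intro m
      rw [τ, H_shift m hz.2.1 hz.2.2, hwz, one_smul]
      funext i
      simp only [Pi.add_apply, Pi.smul_apply, smul_eq_mul]
      linear_combination add_self (w i)
    refine uniq hy ?_
    rw [← key l, ← C.line _ _ hz.1 (shift_pt hw l), hθ.line _ (inA hz) _ (inA' hw l), ← hW1 _ hz,
      hF w l hw, C1.line _ _ hz.1 (shift_pt hw _), key]
  have hb : WPt (pl 2 3 1) := pl_wpt (by decide) (by decide) (by decide) one_ne_zero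
  have Fconst : ∀ {w : Vec}, WPt w → ∀ l : FF, F w l = F (pl 2 3 1) l := by
    intro w hw l
    have e : w = ![0, 0, w 2, w 3, w 4, w 5] := by
      funext i
      fin_cases i <;> simp [hw.2.1, hw.2.2]
    have cubes : w 2 ^ 3 + w 3 ^ 3 + w 4 ^ 3 + w 5 ^ 3 = 0 := by
      have h' := hw.1.2
      rw [Cfsg.hermForm, Fin.sum_univ_six, hw.2.1, hw.2.2] at h'
      linear_combination h'
    have nz : ¬ (w 2 = 0 ∧ w 3 = 0 ∧ w 4 = 0 ∧ w 5 = 0) := by
      rintro ⟨h2, h3, h4, h5⟩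
      refine hw.1.1 ?_
      rw [e, h2, h3, h4, h5]
      funext i
      fin_cases i <;> rfl
    have h := chain_low _ _ _ _ cubes nz
    rw [← e] at h
    rcases h with ⟨m, hm, h1, h2⟩ | ⟨m, hm, h1, m', hm', h2, h3⟩
    · rw [Fstep (low_wpt m hm) hb h2, Fstep hw (low_wpt m hm) h1]
    · rw [Fstep (low_wpt m' hm') hb h3, Fstep (low_wpt m hm) (low_wpt m' hm') h2,
        Fstep hw (low_wpt m hm) h1]
  obtain ⟨μ, hμ⟩ : ∃ μ, μ = F (pl 2 3 1) 1 := ⟨_, rfl⟩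
  have Flin : ∀ {w : Vec}, WPt w → ∀ l : FF, F w l = l * μ := by
    intro w hw l
    by_cases hl : l = 0
    · subst hl
      rw [zero_mul]
      refine uniq hw ?_
      rw [zero_smul, zero_add, hW1 w hw]
    · have hw' := hw.smul (inv_ne_zero hl)
      have h := Fscale hw' l 1 hl
      rw [smul_inv_smul₀ hl, mul_one] at h
      rw [h, Fconst hw' 1, hμ]
  have hμ0 : μ ≠ 0 := by
    intro h0
    have h := hF _ 1 hb
    rw [Flin hb 1, h0, mul_zero, zero_smul, zero_add, hW1 _ hb] at h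
    obtain ⟨s, hs⟩ := (C.eq_iff _ _ hb.1 (shift_pt hb 1)).1
      (hθ.inj _ (inA' hb 1) _ (inA hb) h).symm
    simpa [pl] using congrFun hs 0
  have hc6 : ∀ i, (![μ, μ, 1, 1, 1, 1] : Vec) i ≠ 0 := fun i => by
    fin_cases i <;> simp [hμ0]
  obtain ⟨M, hM⟩ : ∃ M : Sim, ∀ v i, M.T v i = v i * (![μ, μ, 1, 1, 1, 1] : Vec) i :=
    ⟨mon 1 _ hc6 (RingEquiv.refl FF), fun v i => by
      simpa using mon_apply 1 _ hc6 (RingEquiv.refl FF) v i⟩
  have hMA : M.T A₀ = μ • A₀ := funext fun i => by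
    rw [hM]; fin_cases i <;> simp [pl]
  have hMB : M.T B₀ = μ • B₀ := funext fun i => by
    rw [hM]; fin_cases i <;> simp [pl, mul_comm]
  obtain ⟨φ, hφ, key⟩ := exists_ball C (C1.comp M)
  refine ⟨φ, hφ, ?_, ?_, ?_⟩
  · rintro q ⟨hqa, hqx⟩
    obtain ⟨u, hu, rfl⟩ := C.cover q hqx
    rw [key u hu, Coord.comp_apply]
    have huA : H u A₀ = 0 := (C.comm_iff u A₀ hu A₀_pt).1 (hA ▸ hqa.2.2.symm)
    obtain ⟨w, hu', -, -, hw⟩ := split hu huA
    rcases hw with h0 | hw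
    · exfalso
      rw [h0, add_zero] at hu'
      refine hqa.2.1 ?_
      rw [hu', C.smul_eq A₀_pt (A₀_pt.smul_ne hu hu'), hA]
    rw [hu', hF _ _ hw, Flin hw]
    congr 1
    funext i
    rw [hM]
    fin_cases i <;> simp [pl, hw.2.1, hw.2.2]
  · rw [← hA, key _ A₀_pt, Coord.comp_apply, hMA, C1.smul_eq A₀_pt hμ0, hA1]
  · rw [← hB, key _ B₀_pt, Coord.comp_apply, hMB, C1.smul_eq B₀_pt hμ0, hB1]

end Cfsg.Agent.ThreeTransp.M22Iso
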