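import Cfsg.Agent.Lib.ThreeTransp.M22Iso.Ext
import Cfsg.Agent.Lib.ThreeTransp.M22.SixOne
import Cfsg.Agent.Lib.ThreeTransp.M22.Perfect

/-!
A map between the neighbourhoods of two members that extends to one neighbour is induced by an
isomorphism of the two local subgroups.
-/

set_option autoImplicit false
set_option linter.unusedSectionVars false

namespace Cfsg.Agent.ThreeTransp.M22Iso

open Cfsg.Agent.InvChar.Coset (FF)
open Cfsg.Agent.ThreeTransp
open Cfsg.Agent.ThreeTransp.Factor (nb Hd mem_Hd Hd_commute)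
open Cfsg.Agent.ThreeTransp.Cover (mem_nb_symm conj_nb)
open Coord (stabGens)

universe u v

variable {G : Type u} [Group G] [Finite G] {D : Set G} (hD : Cfsg.IsThreeTranspositionGroup D)
  (hprim : Cfsg.IsPrimitiveUnderConj D) (h22 : Cfsg.IsOfTypeM22 G D)

section One

include hD hprim h22

/-- A neighbour of `a` and five neighbours commuting with it whose product is `a`. -/
theorem exists_five {a : G} (ha : a ∈ D) : ∃ x ∈ nb D a, ∃ l : List G, l.length = 5 ∧
    (∀ q ∈ l, q ∈ nb D a ∧ Commute q x) ∧ l.prod = a := by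
  obtain ⟨l, hlen, hnd, hmem, hcom, hprod⟩ := M22.exists_six_one hD hprim h22 ha
  obtain ⟨y, rest, rfl⟩ := List.exists_cons_of_length_pos (by omega : 0 < l.length)
  obtain ⟨g, hg⟩ := hprim.1 y (hmem y (by simp)).1 a ha
  have hnb : ∀ q ∈ rest, g * q * g⁻¹ ∈ nb D a := fun q hq => hg ▸ conj_nb hD g
    ⟨(hmem q (by simp [hq])).1, fun e => (List.nodup_cons.1 hnd).1 (e ▸ hq),
      hcom y (by simp) q (by simp [hq])⟩
  obtain ⟨z, rest', rfl⟩ := List.exists_cons_of_length_pos
    (show 0 < rest.length by simp at hlen; omega)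
  refine ⟨g * z * g⁻¹, hnb z (by simp), ((z :: rest').map fun q => g * q * g⁻¹), ?_, ?_, ?_⟩
  · simp at hlen ⊢; omega
  · intro q hq
    obtain ⟨q, hq', rfl⟩ := List.mem_map.1 hq
    exact ⟨hnb q hq', Basic.commute_conj.2 (hcom q (List.mem_cons_of_mem _ hq') z (by simp))⟩
  · have h : ∀ l : List G, (l.map fun q => g * q * g⁻¹).prod = g * l.prod * g⁻¹ := fun l => by
      induction l with
      | nil => simp
      | cons p l ih => rw [List.map_cons, List.prod_cons, ih, List.prod_cons]; group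
    rw [h]
    rw [List.prod_cons] at hprod
    rw [← inv_eq_of_mul_eq_one_right hprod, Classes.inv hD (hmem y (by simp)).1, hg]

/-- The subgroup of the neighbours of `a` commuting with `x` fills the centraliser of `x`. -/
theorem stab_eq {a x : G} (ha : a ∈ D) (hx : x ∈ nb D a) (has : a ∈ stabGens D a x) {h : G}
    (hh : h ∈ Hd D a) (hc : Commute h x) : h ∈ stabGens D a x := by
  obtain ⟨C⟩ := exists_coord hD h22 ha
  obtain ⟨v, hv, rfl⟩ := C.cover x hx
  refine C.stab hD hv has (fun z hz hzc => ?_) hh hc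
  rcases M22.centralizes_loc hD hprim h22 ha (z := z) (fun k hk => by
    rw [M22.loc_eq hD hprim h22 ha] at hk
    induction hk using Subgroup.closure_induction with
    | mem y hy => exact hzc y hy
    | one => exact Commute.one_right _
    | mul p q _ _ hp hq => exact hp.mul_right hq
    | inv p _ hp => exact hp.inv_right) with e | e
  · rw [e]; exact one_mem _
  · rw [e]; exact Subgroup.mem_zpowers a

/-- The centraliser of a neighbour has index 693 in the local subgroup. -/
theorem index_stab {a x : G} (ha : a ∈ D) (hx : x ∈ nb D a) (has : a ∈ stabGens D a x) :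
    ((stabGens D a x).subgroupOf (Hd D a)).index = 693 := by
  have hiff : ∀ h : ↥(Hd D a), h ∈ (stabGens D a x).subgroupOf (Hd D a) ↔ Commute (h : G) x := by
    intro h
    rw [Subgroup.mem_subgroupOf]
    refine ⟨fun hh => ?_, stab_eq hD hprim h22 ha hx has h.2⟩
    have hle : stabGens D a x ≤ Subgroup.centralizer ({x} : Set G) := by
      rw [stabGens, Subgroup.closure_le]
      intro y hy
      refine Subgroup.mem_centralizer_iff.2 fun z hz => ?_
      rw [Set.mem_singleton_iff.1 hz]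
      exact hy.2.symm.eq
    exact (Subgroup.mem_centralizer_iff.1 (hle hh) x (Set.mem_singleton x)).symm
  rw [← M22.ncard_nb hD hprim h22 ha, Subgroup.index, ← Nat.card_coe_set_eq]
  refine Nat.card_congr (Equiv.ofBijective (Quotient.lift (fun g : ↥(Hd D a) =>
    (⟨(g : G) * x * (g : G)⁻¹, M22.Chart.conj_mem_nb hD (Hd_commute g.2).symm hx⟩ : nb D a)) ?_)
    ⟨?_, ?_⟩)
  · intro g g' h
    have h2 := (hiff _).1 (QuotientGroup.leftRel_apply.1 h)
    refine Subtype.ext ?_
    show (g : G) * x * (g : G)⁻¹ = (g' : G) * x * (g' : G)⁻¹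
    calc _ = (g : G) * (((g⁻¹ * g' : ↥(Hd D a)) : G) * x * ((g⁻¹ * g' : ↥(Hd D a)) : G)⁻¹) *
          (g : G)⁻¹ := by rw [h2.eq, mul_inv_cancel_right]
      _ = _ := by simp only [Subgroup.coe_mul, InvMemClass.coe_inv]; group
  · intro p q
    induction p using Quotient.inductionOn with
    | h g =>
      induction q using Quotient.inductionOn with
      | h g' =>
        intro h
        have h' : (g : G) * x * (g : G)⁻¹ = (g' : G) * x * (g' : G)⁻¹ := congrArg Subtype.val h
        refine Quotient.sound (QuotientGroup.leftRel_apply.2 ((hiff _).2 ?_))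
        simp only [Subgroup.coe_mul, InvMemClass.coe_inv]
        show (g : G)⁻¹ * (g' : G) * x = x * ((g : G)⁻¹ * (g' : G))
        calc _ = (g : G)⁻¹ * ((g' : G) * x * (g' : G)⁻¹) * (g' : G) := by group
          _ = _ := by rw [← h']; group
  · rintro ⟨y, hy⟩
    obtain ⟨g, hg, hgy⟩ := RankThree.linked_inner hD hprim (M22.exists_commuting hD hprim h22)
      (Primitive.cores_central hD hprim (M22.exists_commuting hD hprim h22)).1 ha hx.1 hy.1
      hx.2.2 hy.2.2 hx.2.1 hy.2.1
    rw [M22.loc_eq hD hprim h22 ha] at hg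
    exact ⟨Quotient.mk _ ⟨g, hg⟩, Subtype.ext hgy⟩

theorem card_Hd {a : G} (ha : a ∈ D) : Nat.card ↥(Hd D a) = 18393661440 := by
  rw [← M22.loc_eq hD hprim h22 ha]; exact M22.card_loc hD hprim h22 ha

/-- What centralises the neighbourhood inside the local subgroup. -/
theorem central_cases {a z : G} (ha : a ∈ D) (hz : ∀ x ∈ nb D a, Commute z x) : z = 1 ∨ z = a := by
  refine M22.centralizes_loc hD hprim h22 ha fun k hk => ?_
  rw [M22.loc_eq hD hprim h22 ha] at hk
  induction hk using Subgroup.closure_induction with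
  | mem y hy => exact hz y hy
  | one => exact Commute.one_right _
  | mul p q _ _ hp hq => exact hp.mul_right hq
  | inv p _ hp => exact hp.inv_right

end One

variable {G' : Type v} [Group G'] [Finite G'] {D' : Set G'}
  (hD' : Cfsg.IsThreeTranspositionGroup D')
  (hprim' : Cfsg.IsPrimitiveUnderConj D') (h22' : Cfsg.IsOfTypeM22 G' D')
include hD hprim h22 hD' hprim' h22'

/-- The lifting. -/
theorem exists_lift {a x c : G} {a' : G'} {θ φ : G → G'} (ha : a ∈ D) (ha' : a' ∈ D')
    (hθ : IsBall D a D' a' θ) (hx : x ∈ nb D a) {l : List G} (hlen : l.length = 5)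
    (hl : ∀ q ∈ l, q ∈ nb D a ∧ Commute q x) (hprod : l.prod = a)
    (hφ : IsBall D x D' (θ x) φ) (hag : ∀ q ∈ nb D a ∩ nb D x, φ q = θ q) (hφa : φ a = a')
    (hc : c ∈ nb D x) (hac : ¬ Commute a c) :
    ∃ ψ : ↥(Hd D a) ≃* ↥(Hd D' a'), (∀ q (hq : q ∈ nb D a), (ψ ⟨q, mem_Hd hq⟩ : G') = θ q) ∧
      (∀ ha0 : a ∈ Hd D a, (ψ ⟨a, ha0⟩ : G') = a') ∧
      ∀ h : ↥(Hd D a), Commute (h : G) x → ∀ y ∈ nb D x,
        φ ((h : G) * y * (h : G)⁻¹) = (ψ h : G') * φ y * (ψ h : G')⁻¹ := by
  classical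
  let R : Subgroup (G × G') := Subgroup.closure {p | ∃ q ∈ nb D a, p = (q, θ q)}
  let Rx : Subgroup (G × G') :=
    Subgroup.closure {p | ∃ q ∈ nb D a, Commute q x ∧ p = (q, θ q)}
  have hRx : Rx ≤ R := Subgroup.closure_mono fun p ⟨q, hq, _, e⟩ => ⟨q, hq, e⟩
  have invgen : ∀ q ∈ nb D a, ((q, θ q) : G × G')⁻¹ = (q, θ q) := fun q hq => by
    rw [Prod.inv_mk, Classes.inv hD hq.1, Classes.inv hD' (hθ.maps q hq).1]
  -- both coordinates act compatibly
  have P1 : ∀ p ∈ R, p.1 ∈ Hd D a ∧ p.2 ∈ Hd D' a' ∧ ∀ y ∈ nb D a,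
      p.1 * y * p.1⁻¹ ∈ nb D a ∧ θ (p.1 * y * p.1⁻¹) = p.2 * θ y * p.2⁻¹ := by
    intro p hp
    induction hp using Subgroup.closure_induction'' with
    | mem p hp =>
      obtain ⟨q, hq, rfl⟩ := hp
      refine ⟨mem_Hd hq, mem_Hd (hθ.maps q hq), fun y hy => ⟨?_, ?_⟩⟩
      · exact M22.Chart.conj_mem_nb hD hq.2.2.symm hy
      · simp only [Classes.inv hD hq.1, Classes.inv hD' (hθ.maps q hq).1]
        exact hθ.line q hq y hy
    | inv_mem p hp =>
      obtain ⟨q, hq, rfl⟩ := hp
      rw [invgen q hq]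
      refine ⟨mem_Hd hq, mem_Hd (hθ.maps q hq), fun y hy => ⟨?_, ?_⟩⟩
      · exact M22.Chart.conj_mem_nb hD hq.2.2.symm hy
      · simp only [Classes.inv hD hq.1, Classes.inv hD' (hθ.maps q hq).1]
        exact hθ.line q hq y hy
    | one => exact ⟨one_mem _, one_mem _, fun y hy => ⟨by simpa using hy, by simp⟩⟩
    | mul p q _ _ hp hq =>
      refine ⟨mul_mem hp.1 hq.1, mul_mem hp.2.1 hq.2.1, fun y hy => ?_⟩
      obtain ⟨h1, h2⟩ := hq.2.2 y hy
      obtain ⟨h3, h4⟩ := hp.2.2 _ h1
      rw [show (p * q).1 * y * (p * q).1⁻¹ = p.1 * (q.1 * y * q.1⁻¹) * p.1⁻¹ by simp [mul_assoc]]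
      refine ⟨h3, ?_⟩
      rw [h4, h2]
      simp [mul_assoc]
  have P2 : ∀ p ∈ Rx, ∀ y ∈ nb D x,
      p.1 * y * p.1⁻¹ ∈ nb D x ∧ φ (p.1 * y * p.1⁻¹) = p.2 * φ y * p.2⁻¹ := by
    have gen : ∀ q ∈ nb D a, Commute q x → ∀ y ∈ nb D x,
        q * y * q⁻¹ ∈ nb D x ∧ φ (q * y * q⁻¹) = θ q * φ y * (θ q)⁻¹ := by
      intro q hq hqx y hy
      refine ⟨M22.Chart.conj_mem_nb hD hqx hy, ?_⟩
      by_cases e : q = x
      · subst e
        rw [mul_inv_eq_iff_eq_mul.2 hy.2.2.eq, mul_inv_eq_iff_eq_mul.2 (hφ.maps y hy).2.2.eq]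
      · have hqn : q ∈ nb D a ∩ nb D x := ⟨hq, hq.1, e, hqx.symm⟩
        rw [Classes.inv hD hq.1, hφ.line q hqn.2 y hy, hag q hqn,
          Classes.inv hD' (hθ.maps q hq).1]
    intro p hp
    induction hp using Subgroup.closure_induction'' with
    | mem p hp => obtain ⟨q, hq, hqx, rfl⟩ := hp; exact gen q hq hqx
    | inv_mem p hp =>
      obtain ⟨q, hq, hqx, rfl⟩ := hp
      rw [invgen q hq]; exact gen q hq hqx
    | one => exact fun y hy => ⟨by simpa using hy, by simp⟩
    | mul p q _ _ hp hq =>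
      intro y hy
      obtain ⟨h1, h2⟩ := hq y hy
      obtain ⟨h3, h4⟩ := hp _ h1
      rw [show (p * q).1 * y * (p * q).1⁻¹ = p.1 * (q.1 * y * q.1⁻¹) * p.1⁻¹ by simp [mul_assoc]]
      refine ⟨h3, ?_⟩
      rw [h4, h2]
      simp [mul_assoc]
  have sur1 : ∀ h ∈ Hd D a, ∃ h', (h, h') ∈ R := by
    intro h hh
    induction hh using Subgroup.closure_induction with
    | mem q hq => exact ⟨θ q, Subgroup.subset_closure ⟨q, hq, rfl⟩⟩
    | one => exact ⟨1, one_mem R⟩
    | mul p q _ _ hp hq =>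
      obtain ⟨p', hp⟩ := hp; obtain ⟨q', hq⟩ := hq
      exact ⟨p' * q', mul_mem hp hq⟩
    | inv p _ hp => obtain ⟨p', hp⟩ := hp; exact ⟨p'⁻¹, inv_mem hp⟩
  have sur2 : ∀ h ∈ Hd D' a', ∃ g, (g, h) ∈ R := by
    intro h hh
    induction hh using Subgroup.closure_induction with
    | mem q hq =>
      obtain ⟨y, hy, rfl⟩ := hθ.surj q hq
      exact ⟨y, Subgroup.subset_closure ⟨y, hy, rfl⟩⟩
    | one => exact ⟨1, one_mem R⟩
    | mul p q _ _ hp hq =>
      obtain ⟨p', hp⟩ := hp; obtain ⟨q', hq⟩ := hq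
      exact ⟨p' * q', mul_mem hp hq⟩
    | inv p _ hp => obtain ⟨p', hp⟩ := hp; exact ⟨p'⁻¹, inv_mem hp⟩
  have surx : ∀ h ∈ stabGens D a x, ∃ h', (h, h') ∈ Rx := by
    intro h hh
    induction hh using Subgroup.closure_induction with
    | mem q hq => exact ⟨θ q, Subgroup.subset_closure ⟨q, hq.1, hq.2, rfl⟩⟩
    | one => exact ⟨1, one_mem Rx⟩
    | mul p q _ _ hp hq =>
      obtain ⟨p', hp⟩ := hp; obtain ⟨q', hq⟩ := hq
      exact ⟨p' * q', mul_mem hp hq⟩
    | inv p _ hp => obtain ⟨p', hp⟩ := hp; exact ⟨p'⁻¹, inv_mem hp⟩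
  -- the fibre over a central element
  have fib : ∀ z k, (z, k) ∈ R → (∀ y ∈ nb D a, Commute z y) → k = 1 ∨ k = a' := by
    intro z k hzk hz
    refine central_cases hD' hprim' h22' ha' fun y' hy' => ?_
    obtain ⟨y, hy, rfl⟩ := hθ.surj y' hy'
    have h := ((P1 _ hzk).2.2 y hy).2
    simp only [mul_inv_eq_iff_eq_mul.2 (hz y hy).eq] at h
    exact mul_inv_eq_iff_eq_mul.1 h.symm
  have moved : a' * φ c * a'⁻¹ ≠ φ c := by
    rw [← hφa]
    intro e
    exact hac ((hφ.comm a (mem_nb_symm ha hx) c hc).1 (mul_inv_eq_iff_eq_mul.1 e))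
  have hnotK : ((1 : G), a') ∉ Rx := fun h => by
    have := (P2 _ h c hc).2
    simp only [one_mul, inv_one, mul_one] at this
    exact moved this.symm
  have has : a ∈ stabGens D a x := by
    have : l.prod ∈ stabGens D a x := list_prod_mem fun q hq =>
      Subgroup.subset_closure (hl q hq)
    rwa [hprod] at this
  have haH : a ∈ Hd D a := by
    have : l.prod ∈ Hd D a := list_prod_mem fun q hq => mem_Hd (hl q hq).1
    rwa [hprod] at this
  have haa : ((a, a') : G × G') ∈ Rx := by
    obtain ⟨e, he⟩ := surx a has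
    rcases fib a e (hRx he) (fun y hy => hy.2.2) with h | h
    · exfalso
      have h1 := (P2 _ he c hc).2
      have ea : a * c * a⁻¹ = a * c * a := by rw [Classes.inv hD ha]
      simp only [h, one_mul, inv_one, mul_one, ea, hφ.line a (mem_nb_symm ha hx) c hc, hφa] at h1
      exact moved (by rw [Classes.inv hD' ha']; exact h1)
    · rwa [← h]
  -- the fibre over the identity is trivial
  have hfib : ((1 : G), a') ∉ R := by
    intro hK
    let k : ↥R := ⟨_, hK⟩
    have hkk : k * k = 1 := Subtype.ext (Prod.ext (one_mul _) (Classes.sq hD' ha'))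
    have hkc : ∀ g : ↥R, g * k = k * g := fun g => Subtype.ext (Prod.ext (by simp [k])
      (Hd_commute (P1 _ g.2).2.1).symm.eq)
    let f1 : ↥R →* ↥(Hd D a) :=
      ((MonoidHom.fst G G').comp R.subtype).codRestrict (Hd D a) fun p => (P1 _ p.2).1
    let f2 : ↥R →* ↥(Hd D' a') :=
      ((MonoidHom.snd G G').comp R.subtype).codRestrict (Hd D' a') fun p => (P1 _ p.2).2.1
    have hf1 : Function.Surjective f1 := fun h => by
      obtain ⟨h', hh⟩ := sur1 h h.2
      exact ⟨⟨_, hh⟩, Subtype.ext rfl⟩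
    have hf2 : Function.Surjective f2 := fun h => by
      obtain ⟨h', hh⟩ := sur2 h h.2
      exact ⟨⟨_, hh⟩, Subtype.ext rfl⟩
    let M : Subgroup ↥R := ((stabGens D a x).subgroupOf (Hd D a)).comap f1
    have hM : ∀ p : ↥R, p ∈ M → (p : G × G') ∉ Rx → ((p * k : ↥R) : G × G') ∈ Rx := by
      intro p hp hn
      obtain ⟨e, he⟩ := surx _ (Subgroup.mem_subgroupOf.1 hp)
      have he' : ((f1 p : G), e) ∈ R := hRx he
      have hq : ((1 : G), (p : G × G').2⁻¹ * e) ∈ R := by
        have := mul_mem (inv_mem p.2) he'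
        rwa [show ((p : G × G'))⁻¹ * ((f1 p : G), e) = ((1 : G), (p : G × G').2⁻¹ * e) from
          Prod.ext (inv_mul_cancel _) rfl] at this
      rcases fib 1 _ hq (fun y _ => Commute.one_left y) with h | h
      · refine absurd ?_ hn
        rw [inv_mul_eq_one] at h
        rw [show (p : G × G') = ((f1 p : G), e) from Prod.ext rfl h]
        exact he
      · rw [show ((p * k : ↥R) : G × G') = ((f1 p : G), e) from Prod.ext (mul_one _) (by
          show (p : G × G').2 * a' = e
          rw [← h, mul_inv_cancel_left])]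
        exact he
    let χ : ↥R → ℤˣ := fun p => if (p : G × G') ∈ Rx then 1 else -1
    have hχmul : ∀ p ∈ M, ∀ q ∈ M, χ (p * q) = χ p * χ q := by
      intro p hp q hq
      by_cases h1 : (p : G × G') ∈ Rx <;> by_cases h2 : (q : G × G') ∈ Rx
      · simp [χ, h1, h2, mul_mem h1 h2]
      · have : ((p * q : ↥R) : G × G') ∉ Rx := fun h => h2 (by
          simpa using mul_mem (inv_mem h1) h)
        simp only [χ, h1, h2, this, if_true, if_false, one_mul]
      · have : ((p * q : ↥R) : G × G') ∉ Rx := fun h => h1 (by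
          simpa using mul_mem h (inv_mem h2))
        simp only [χ, h1, h2, this, if_true, if_false, mul_one]
      · have : ((p * q : ↥R) : G × G') ∈ Rx := by
          have e : p * q = (p * k) * (q * k) := by
            rw [mul_assoc, ← mul_assoc k, ← hkc q, mul_assoc q, hkk, mul_one]
          rw [e, Subgroup.coe_mul]
          exact mul_mem (hM p hp h1) (hM q hq h2)
        simp only [χ, h1, h2, this, if_true, if_false]
        decide
    let π : ↥M →* ℤˣ := MonoidHom.mk' (fun p => χ p) fun p q => hχmul _ p.2 _ q.2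
    have hidx : M.index = 693 := by
      rw [Subgroup.index_comap_of_surjective _ hf1, index_stab hD hprim h22 ha hx has]
    haveI : M.FiniteIndex := ⟨by omega⟩
    have hτk : MonoidHom.transfer π k = -1 := by
      rw [MonoidHom.transfer_eq_pow π k fun n g₀ _ => by
        rw [mul_assoc, ← (Commute.pow_right (hkc g₀ : Commute g₀ k) n).eq, ← mul_assoc,
          inv_mul_cancel, one_mul]]
      show χ (k ^ M.index) = -1
      rw [hidx, show 693 = 2 * 346 + 1 by norm_num, pow_succ, pow_mul, pow_two, hkk, one_pow,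
        one_mul]
      exact if_neg hnotK
    obtain ⟨τ, hτ⟩ : ∃ τ : ↥R →* ℤˣ, τ k = -1 := ⟨_, hτk⟩
    -- constant on the generators
    let gn : ∀ q ∈ nb D a, ↥R := fun q hq => ⟨(q, θ q), Subgroup.subset_closure ⟨q, hq, rfl⟩⟩
    have hconst : ∀ q (hq : q ∈ nb D a), τ (gn q hq) = τ (gn x hx) := by
      intro q hq
      obtain ⟨g, hg, hgq⟩ := RankThree.linked_inner hD hprim (M22.exists_commuting hD hprim h22)
        (Primitive.cores_central hD hprim (M22.exists_commuting hD hprim h22)).1 ha hx.1 hq.1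
        hx.2.2 hq.2.2 hx.2.1 hq.2.1
      rw [M22.loc_eq hD hprim h22 ha] at hg
      obtain ⟨g', hg'⟩ := sur1 g hg
      have e : gn q hq = ⟨_, hg'⟩ * gn x hx * (⟨_, hg'⟩ : ↥R)⁻¹ := Subtype.ext (Prod.ext hgq.symm
        (by
          show θ q = g' * θ x * g'⁻¹
          rw [← hgq]
          exact ((P1 _ hg').2.2 x hx).2))
      rw [e, map_mul, map_mul, map_inv, mul_right_comm, mul_inv_cancel, one_mul]
    have hlist : ∀ m : List G, (∀ q ∈ m, q ∈ nb D a ∧ Commute q x) → ∃ p : ↥R,
        (p : G × G').1 = m.prod ∧ (p : G × G') ∈ Rx ∧ τ p = τ (gn x hx) ^ m.length := by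
      intro m hm
      induction m with
      | nil => exact ⟨1, rfl, one_mem Rx, by simp⟩
      | cons q m ih =>
        obtain ⟨p, h1, h2, h3⟩ := ih fun q' hq' => hm q' (List.mem_cons_of_mem _ hq')
        obtain ⟨hq, hqx⟩ := hm q (by simp)
        refine ⟨gn q hq * p, by simp [gn, h1],
          mul_mem (Subgroup.subset_closure ⟨q, hq, hqx, rfl⟩) h2, ?_⟩
        rw [map_mul, hconst q hq, h3, List.length_cons, pow_succ']
    obtain ⟨p5, h51, h52, h53⟩ := hlist l hl
    rw [hprod] at h51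
    rw [hlen] at h53
    have hp5 : (p5 : G × G') = (a, a') := by
      refine Prod.ext h51 ?_
      have h1 : ((a, (p5 : G × G').2) : G × G') ∈ Rx := by
        convert h52 using 1; exact Prod.ext h51.symm rfl
      rcases fib a _ (hRx h1) (fun y hy => hy.2.2) with h | h
      · exfalso
        have h2 := mul_mem (inv_mem h1) haa
        rw [h, Prod.inv_mk, Prod.mk_mul_mk, inv_mul_cancel, inv_one, one_mul] at h2
        exact hnotK h2
      · exact h
    -- the derived subgroup covers both factors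
    have hC1 : (commutator ↥R).map f1 = ⊤ := by
      rw [commutator_def, Subgroup.map_commutator, Subgroup.map_top_of_surjective _ hf1,
        ← commutator_def, M22.perfect_Hd hD hprim h22 ha]
    have hC2 : (commutator ↥R).map f2 = ⊤ := by
      rw [commutator_def, Subgroup.map_commutator, Subgroup.map_top_of_surjective _ hf2,
        ← commutator_def, M22.perfect_Hd hD' hprim' h22' ha']
    have hcomm1 : ∀ p ∈ commutator ↥R, τ p = 1 := fun p hp =>
      Abelianization.commutator_subset_ker τ hp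
    let g1 : ↥(commutator ↥R) →* ↥(Hd D a) := f1.comp (commutator ↥R).subtype
    let g2 : ↥(commutator ↥R) →* ↥(Hd D' a') := f2.comp (commutator ↥R).subtype
    have hg1 : Function.Bijective g1 := by
      refine ⟨(injective_iff_map_eq_one g1).2 ?_, fun h => ?_⟩
      · rintro ⟨p, hp⟩ he
        have he' : (p : G × G').1 = 1 := congrArg Subtype.val he
        have hm : ((1 : G), (p : G × G').2) ∈ R := by rw [← he']; exact p.2
        rcases fib 1 _ hm (fun y _ => Commute.one_left y) with h | h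
        · exact Subtype.ext (Subtype.ext (Prod.ext he' h))
        · exfalso
          have e : p = k := Subtype.ext (Prod.ext he' h)
          have h1 := hcomm1 p hp
          rw [e, hτ] at h1
          exact absurd h1 (by decide)
      · obtain ⟨p, hp, e⟩ := (hC1 ▸ Subgroup.mem_top h : h ∈ (commutator ↥R).map f1)
        exact ⟨⟨p, hp⟩, e⟩
    have hg2 : Function.Bijective g2 := by
      refine Function.Surjective.bijective_of_nat_card_le (fun h => ?_) ?_
      · obtain ⟨p, hp, e⟩ := (hC2 ▸ Subgroup.mem_top h : h ∈ (commutator ↥R).map f2)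
        exact ⟨⟨p, hp⟩, e⟩
      · rw [Nat.card_eq_of_bijective _ hg1, card_Hd hD hprim h22 ha,
          card_Hd hD' hprim' h22' ha']
    obtain ⟨⟨p, hp⟩, e⟩ := hg1.2 ⟨a, haH⟩
    have e' : (p : G × G').1 = a := congrArg Subtype.val e
    have hpa : p = p5 := by
      refine Subtype.ext ?_
      rw [hp5]
      refine Prod.ext e' ?_
      have hm : ((a : G), (p : G × G').2) ∈ R := by rw [← e']; exact p.2
      rcases fib a _ hm (fun y hy => hy.2.2) with h | h
      · exfalso
        have h1 : g2 ⟨p, hp⟩ = g2 1 := by rw [map_one]; exact Subtype.ext h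
        have h2 := hg2.1 h1
        rw [h2, map_one] at e
        exact Basic.ne_one hD.1 ha (congrArg Subtype.val e).symm
      · exact h
    have h5 : τ (gn x hx) = 1 := by
      have h := hcomm1 p hp
      rw [hpa, h53] at h
      rwa [show 5 = 2 * 2 + 1 by norm_num, pow_succ, pow_mul, Int.units_sq, one_mul] at h
    have htriv : ∀ r : G × G', ∀ hr : r ∈ R, τ ⟨r, hr⟩ = 1 := by
      intro r hr
      induction hr using Subgroup.closure_induction with
      | mem r hr =>
        obtain ⟨q, hq, rfl⟩ := hr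
        exact (hconst q hq).trans h5
      | one => exact map_one τ
      | mul r s hr hs h1 h2 =>
        show τ (⟨r, hr⟩ * ⟨s, hs⟩) = 1
        rw [map_mul, h1, h2, mul_one]
      | inv r hr h1 =>
        show τ (⟨r, hr⟩⁻¹) = 1
        rw [map_inv, h1, inv_one]
    exact absurd (hτ.symm.trans (htriv _ hK)) (by decide)
  -- the isomorphism
  let f1 : ↥R →* ↥(Hd D a) :=
    ((MonoidHom.fst G G').comp R.subtype).codRestrict (Hd D a) fun p => (P1 _ p.2).1
  let f2 : ↥R →* ↥(Hd D' a') :=
    ((MonoidHom.snd G G').comp R.subtype).codRestrict (Hd D' a') fun p => (P1 _ p.2).2.1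
  have hb1 : Function.Bijective f1 := by
    refine ⟨(injective_iff_map_eq_one f1).2 ?_, fun h => ?_⟩
    · rintro ⟨⟨z, k⟩, hp⟩ he
      obtain rfl : z = 1 := congrArg Subtype.val he
      rcases fib 1 _ hp (fun y _ => Commute.one_left y) with h | h
      · exact Subtype.ext (Prod.ext rfl h)
      · exact absurd (h ▸ hp) hfib
    · obtain ⟨h', hh⟩ := sur1 h h.2
      exact ⟨⟨_, hh⟩, Subtype.ext rfl⟩
  have hb2 : Function.Bijective f2 := by
    refine Function.Surjective.bijective_of_nat_card_le (fun h => ?_) ?_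
    · obtain ⟨h', hh⟩ := sur2 h h.2
      exact ⟨⟨_, hh⟩, Subtype.ext rfl⟩
    · rw [Nat.card_eq_of_bijective _ hb1, card_Hd hD hprim h22 ha, card_Hd hD' hprim' h22' ha']
  let ψ : ↥(Hd D a) ≃* ↥(Hd D' a') :=
    (MulEquiv.ofBijective f1 hb1).symm.trans (MulEquiv.ofBijective f2 hb2)
  have hψ : ∀ (h : ↥(Hd D a)) (k : G'), ((h : G), k) ∈ R → (ψ h : G') = k := by
    intro h k hk
    have : (MulEquiv.ofBijective f1 hb1).symm h = ⟨_, hk⟩ :=
      (MulEquiv.symm_apply_eq _).2 (Subtype.ext rfl)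
    show ((MulEquiv.ofBijective f2 hb2) ((MulEquiv.ofBijective f1 hb1).symm h) : G') = k
    rw [this]; rfl
  refine ⟨ψ, fun q hq => hψ _ _ (Subgroup.subset_closure ⟨q, hq, rfl⟩),
    fun ha0 => hψ _ _ (hRx haa), fun h hh y hy => ?_⟩
  obtain ⟨k, hk⟩ := surx _ (stab_eq hD hprim h22 ha hx has h.2 hh)
  rw [hψ h k (hRx hk)]
  exact (P2 _ hk y hy).2

end Cfsg.Agent.ThreeTransp.M22Iso
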