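import Cfsg.Agent.Lib.ThreeTransp.M22Iso.Normal

/-!
A bijection of the isotropic points of the four-dimensional unitary space over the field with four
elements that preserves orthogonality and transvection images is semilinear.
-/

set_option autoImplicit false
set_option linter.unusedSectionVars false

namespace Cfsg.Agent.ThreeTransp.M22Iso

open Cfsg.Agent.Classical.Unitary
open Cfsg.Agent.Forms
open Cfsg.Agent.InvChar.Coset (FF)

local notation "H" => Cfsg.hermForm 6 FF 2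

/-- A point on the last four coordinates. -/
def WPt (v : Vec) : Prop := Pt v ∧ v 0 = 0 ∧ v 1 = 0

theorem WPt.smul {v : Vec} (h : WPt v) {c : FF} (hc : c ≠ 0) : WPt (c • v) :=
  ⟨h.1.smul hc, by simp [h.2.1], by simp [h.2.2]⟩

theorem WPt.tau {u v : Vec} (hu : WPt u) (hv : WPt v) : WPt (τ u v) :=
  ⟨hv.1.tau hu.1.2, by simp [τ, hu.2.1, hv.2.1], by simp [τ, hu.2.2, hv.2.2]⟩

/-- What is assumed of the map. -/
structure QMap (ψ : Vec → Vec) : Prop where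
  maps : ∀ v, WPt v → WPt (ψ v)
  perp : ∀ u v, WPt u → WPt v → (H (ψ u) (ψ v) = 0 ↔ H u v = 0)
  smul : ∀ v, WPt v → ∀ c : FF, c ≠ 0 → ∃ s : FF, ψ (c • v) = s • ψ v
  line : ∀ u v, WPt u → WPt v → ∃ s : FF, ψ (τ u v) = s • τ (ψ u) (ψ v)

theorem chain_tau : ∀ i j k : Fin 6, i ≠ j → j ≠ k → i ≠ k → ∀ l m : FF, l ≠ 0 → m ≠ 0 →
    τ (pl i j l) (pl j k m) = l ^ 2 • pl i k (l * m) := by decide +kernel

theorem flip_pl : ∀ i j : Fin 6, i ≠ j → ∀ l : FF, l ≠ 0 → pl j i (l ^ 2) = l ^ 2 • pl i j l := by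
  decide +kernel

theorem tau_third : τ (pl 2 3 1) (pl 2 3 FF.w) = FF.w2 • pl 2 3 FF.w2 ∨
    τ (pl 2 3 1) (pl 2 3 FF.w) = FF.w • pl 2 3 FF.w2 ∨
    τ (pl 2 3 1) (pl 2 3 FF.w) = pl 2 3 FF.w2 := by decide +kernel

set_option maxRecDepth 100000 in
set_option synthInstance.maxSize 100000 in
set_option synthInstance.maxHeartbeats 400000 in
theorem four_prop : ∀ a b c d : FF,
    a ^ 3 + b ^ 3 + c ^ 3 + d ^ 3 = 0 → ¬ (a = 0 ∧ b = 0 ∧ c = 0 ∧ d = 0) →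
    ∀ a' b' c' d' : FF, ¬ (a' = 0 ∧ b' = 0 ∧ c' = 0 ∧ d' = 0) →
    (∀ l : FF, l ≠ 0 →
      (a + l ^ 2 * b = 0 ↔ a' + l ^ 2 * b' = 0) ∧ (a + l ^ 2 * c = 0 ↔ a' + l ^ 2 * c' = 0) ∧
      (a + l ^ 2 * d = 0 ↔ a' + l ^ 2 * d' = 0) ∧ (b + l ^ 2 * c = 0 ↔ b' + l ^ 2 * c' = 0) ∧
      (b + l ^ 2 * d = 0 ↔ b' + l ^ 2 * d' = 0) ∧ (c + l ^ 2 * d = 0 ↔ c' + l ^ 2 * d' = 0)) →
    ∃ s : FF, a' = s * a ∧ b' = s * b ∧ c' = s * c ∧ d' = s * d := by decide +kernel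

/-- A point is determined by the weight-two points orthogonal to it. -/
theorem prop_of_perp {x y : Vec} (hx : WPt x) (hy : WPt y)
    (h : ∀ i j : Fin 6, i ≠ j → 2 ≤ (i : ℕ) → 2 ≤ (j : ℕ) → ∀ l : FF, l ≠ 0 →
      (H x (pl i j l) = 0 ↔ H y (pl i j l) = 0)) : ∃ s : FF, y = s • x := by
  have cubes : x 2 ^ 3 + x 3 ^ 3 + x 4 ^ 3 + x 5 ^ 3 = 0 := by
    have h' := hx.1.2
    rw [Cfsg.hermForm, Fin.sum_univ_six, hx.2.1, hx.2.2] at h'
    linear_combination h'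
  have nz : ∀ {z : Vec}, WPt z → ¬ (z 2 = 0 ∧ z 3 = 0 ∧ z 4 = 0 ∧ z 5 = 0) := by
    rintro z hz ⟨h2, h3, h4, h5⟩
    refine hz.1.1 (funext fun i => ?_)
    fin_cases i
    exacts [hz.2.1, hz.2.2, h2, h3, h4, h5]
  obtain ⟨s, e2, e3, e4, e5⟩ := four_prop _ _ _ _ cubes (nz hx) _ _ _ _ (nz hy) fun l hl => by
    have h23 := h 2 3 (by decide) (by decide) (by decide) l hl
    have h24 := h 2 4 (by decide) (by decide) (by decide) l hl
    have h25 := h 2 5 (by decide) (by decide) (by decide) l hl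
    have h34 := h 3 4 (by decide) (by decide) (by decide) l hl
    have h35 := h 3 5 (by decide) (by decide) (by decide) l hl
    have h45 := h 4 5 (by decide) (by decide) (by decide) l hl
    simp only [H_pl] at h23 h24 h25 h34 h35 h45
    exact ⟨h23, h24, h25, h34, h35, h45⟩
  refine ⟨s, funext fun i => ?_⟩
  fin_cases i
  · simp [hx.2.1, hy.2.1]
  · simp [hx.2.2, hy.2.2]
  all_goals simp [e2, e3, e4, e5]

theorem pl_wpt {i j : Fin 6} (hij : i ≠ j) (hi : 2 ≤ (i : ℕ)) (hj : 2 ≤ (j : ℕ)) {l : FF}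
    (hl : l ≠ 0) : WPt (pl i j l) := by
  have ne : ∀ {k : Fin 6}, 2 ≤ (k : ℕ) → (0 : Fin 6) ≠ k ∧ (1 : Fin 6) ≠ k := fun {k} hk =>
    ⟨fun e => by rw [← e] at hk; simp at hk, fun e => by rw [← e] at hk; simp at hk⟩
  exact ⟨pl_pt hij hl, by simp [pl, (ne hi).1, (ne hj).1], by simp [pl, (ne hi).2, (ne hj).2]⟩

/-- The map is semilinear. -/
theorem quad {ψ : Vec → Vec} (hψ : QMap ψ) :
    ∃ S : Sim, (∃ s : FF, s ≠ 0 ∧ S.T (pl 0 1 1) = s • pl 0 1 1) ∧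
      (∃ s : FF, s ≠ 0 ∧ S.T (pl 0 1 FF.w) = s • pl 0 1 FF.w) ∧
      ∀ v, WPt v → WPt (S.T v) ∧ ∃ s : FF, ψ v = s • S.T v := by
  have hw : (FF.w : FF) ≠ 0 := by decide
  have w1 : WPt (pl 2 3 1) := pl_wpt (by decide) (by decide) (by decide) one_ne_zero
  have w2 : WPt (pl 2 4 1) := pl_wpt (by decide) (by decide) (by decide) one_ne_zero
  have w3 : WPt (pl 4 5 1) := pl_wpt (by decide) (by decide) (by decide) one_ne_zero
  have w4 : WPt (pl 2 3 FF.w) := pl_wpt (by decide) (by decide) (by decide) hw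
  -- images scaled
  have norm : ∀ {r u v : Vec}, WPt r → WPt v → H r (ψ v) ≠ 0 → u = v →
      ∃ s : FF, s ≠ 0 ∧ H r (s • ψ v) = 1 := fun {r u v} _ _ h _ => by
    refine ⟨H r (ψ v), h, ?_⟩
    rw [H_smul_right, ← pow_succ, cube _ h]
  obtain ⟨r1, hr1⟩ : ∃ r, r = ψ (pl 2 3 1) := ⟨_, rfl⟩
  have R1 : WPt r1 := hr1 ▸ hψ.maps _ w1
  obtain ⟨s2, hs2, h12⟩ := norm R1 w2 (hr1 ▸ fun e => by
    have := (hψ.perp _ _ w1 w2).1 e
    revert this; decide) (Eq.refl (pl 2 4 1))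
  obtain ⟨r2, hr2⟩ : ∃ r, r = s2 • ψ (pl 2 4 1) := ⟨_, rfl⟩
  rw [← hr2] at h12
  have R2 : WPt r2 := hr2 ▸ (hψ.maps _ w2).smul hs2
  have perp2 : ∀ v, WPt v → (H r2 (ψ v) = 0 ↔ H (pl 2 4 1) v = 0) := fun v hv => by
    rw [hr2, H_smul_left, mul_eq_zero, hψ.perp _ _ w2 hv]
    exact ⟨fun h => h.resolve_left hs2, Or.inr⟩
  obtain ⟨s3, hs3, h23⟩ := norm R2 w3 (fun e => by
    have := (perp2 _ w3).1 e
    revert this; decide) (Eq.refl (pl 4 5 1))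
  obtain ⟨r3, hr3⟩ : ∃ r, r = s3 • ψ (pl 4 5 1) := ⟨_, rfl⟩
  rw [← hr3] at h23
  have R3 : WPt r3 := hr3 ▸ (hψ.maps _ w3).smul hs3
  obtain ⟨s4, hs4, h24⟩ := norm R2 w4 (fun e => by
    have := (perp2 _ w4).1 e
    revert this; decide) (Eq.refl (pl 2 3 FF.w))
  obtain ⟨r4, hr4⟩ : ∃ r, r = s4 • ψ (pl 2 3 FF.w) := ⟨_, rfl⟩
  rw [← hr4] at h24
  have R4 : WPt r4 := hr4 ▸ (hψ.maps _ w4).smul hs4
  have h13 : H r1 r3 = 0 := by
    rw [hr1, hr3, H_smul_right, (hψ.perp _ _ w1 w3).2 (by decide), mul_zero]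
  have h34 : H r3 r4 = 0 := by
    rw [hr3, hr4, H_smul_right, H_smul_left, (hψ.perp _ _ w3 w4).2 (by decide), mul_zero, mul_zero]
  obtain ⟨t, ht⟩ : ∃ t, t = H r1 r4 := ⟨_, rfl⟩
  have ht0 : t ≠ 0 := fun e => by
    rw [ht, hr1, hr4, H_smul_right] at e
    have := (hψ.perp _ _ w1 w4).1 ((mul_eq_zero.1 e).resolve_left (pow_ne_zero 2 hs4))
    revert this; decide
  have ht1 : t ≠ 1 := fun e => by
    obtain ⟨s, hs⟩ := hψ.line _ _ w1 w2
    have h0 : H r4 (τ r1 r2) = 0 := by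
      rw [τ, H_add_right4, H_smul_right, ← H_conj4 r2 r4, h24, ← H_conj4 r1 r2, h12, one_pow,
        one_pow, one_mul, ← H_conj4 r1 r4, ← ht, e, one_pow]
      exact add_self 1
    rw [hr2, tau_smul_right, H_smul_right] at h0
    have h1 : H r4 (τ r1 (ψ (pl 2 4 1))) = 0 :=
      (mul_eq_zero.1 h0).resolve_left (pow_ne_zero 2 hs2)
    have h2 : H (ψ (pl 2 3 FF.w)) (ψ (τ (pl 2 3 1) (pl 2 4 1))) = 0 := by
      rw [hs, ← hr1, H_smul_right]
      rw [hr4, H_smul_left] at h1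
      rw [(mul_eq_zero.1 h1).resolve_left hs4, mul_zero]
    have := (hψ.perp _ _ w4 (w1.tau w2)).1 h2
    revert this; decide
  obtain ⟨σ, hσ⟩ : ∃ σ : FF ≃+* FF, σ FF.w = t ∧ (σ = RingEquiv.refl FF ∨ σ = frob) := by
    obtain rfl | rfl | rfl := nonzero_cases t ht0
    · exact absurd rfl ht1
    · exact ⟨RingEquiv.refl FF, rfl, Or.inl rfl⟩
    · exact ⟨frob, by decide, Or.inr rfl⟩
  -- the orthonormal system
  obtain ⟨g3, hg3⟩ : ∃ g, g = t • (r1 + r4) := ⟨_, rfl⟩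
  obtain ⟨g2, hg2⟩ : ∃ g, g = r1 + g3 := ⟨_, rfl⟩
  obtain ⟨g4, hg4⟩ : ∃ g, g = r2 + g2 := ⟨_, rfl⟩
  obtain ⟨g5, hg5⟩ : ∃ g, g = r3 + g4 := ⟨_, rfl⟩
  have h21 : H r2 r1 = 1 := by rw [← H_conj4, h12, one_pow]
  have h32 : H r3 r2 = 1 := by rw [← H_conj4, h23, one_pow]
  have h42 : H r4 r2 = 1 := by rw [← H_conj4, h24, one_pow]
  have h41 : H r4 r1 = t ^ 2 := by rw [← H_conj4, ← ht]
  obtain ⟨hf, hf'⟩ : (σ = RingEquiv.refl FF → t = FF.w) ∧ (σ = frob → t = FF.w2) :=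
    ⟨fun e => by rw [← hσ.1, e]; rfl, fun e => by rw [← hσ.1, e]; decide⟩
  have htc : t = FF.w ∨ t = FF.w2 := by
    rcases nonzero_cases t ht0 with h | h
    exacts [absurd h ht1, h]
  have z01 : ∀ {z : Vec}, z 0 = 0 → z 1 = 0 →
      H (Pi.single 0 1) z = 0 ∧ H (Pi.single 1 1) z = 0 ∧ H z (Pi.single 0 1) = 0 ∧
        H z (Pi.single 1 1) = 0 := by
    intro z z0 z1
    have e0 : H z (Pi.single 0 1) = 0 := by rw [H_single_right hF4, z0]
    have e1 : H z (Pi.single 1 1) = 0 := by rw [H_single_right hF4, z1]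
    exact ⟨H_comm_zero.1 e0, H_comm_zero.1 e1, e0, e1⟩
  have g3z : g3 0 = 0 ∧ g3 1 = 0 := by
    simp [hg3, R1.2.1, R1.2.2, R4.2.1, R4.2.2]
  have g2z : g2 0 = 0 ∧ g2 1 = 0 := by simp [hg2, R1.2.1, R1.2.2, g3z.1, g3z.2]
  have g4z : g4 0 = 0 ∧ g4 1 = 0 := by simp [hg4, R2.2.1, R2.2.2, g2z.1, g2z.2]
  have g5z : g5 0 = 0 ∧ g5 1 = 0 := by simp [hg5, R3.2.1, R3.2.2, g4z.1, g4z.2]
  have H33 : H g3 g3 = 1 ∧ H g2 g2 = 1 ∧ H g4 g4 = 1 ∧ H g5 g5 = 1 ∧ H g2 g3 = 0 ∧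
      H g2 g4 = 0 ∧ H g2 g5 = 0 ∧ H g3 g4 = 0 ∧ H g3 g5 = 0 ∧ H g4 g5 = 0 := by
    simp only [hg5, hg4, hg2, hg3, H_add_left, H_add_right4, H_smul_left, H_smul_right, R1.1.2,
      R2.1.2, R3.1.2, R4.1.2, h12, h21, h23, h32, h24, h42, h13, H_comm_zero.1 h13, h34,
      H_comm_zero.1 h34, ← ht, h41]
    rcases htc with rfl | rfl <;> decide
  obtain ⟨a3, a2, a4, a5, b23, b24, b25, b34, b35, b45⟩ := H33
  obtain ⟨e, he, he01⟩ : ∃ e : Fin 6 → Vec, (∀ i : Fin 6, 2 ≤ (i : ℕ) →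
      e i = ![0, 0, g2, g3, g4, g5] i) ∧
      ((σ = RingEquiv.refl FF ∧ e 0 = Pi.single 0 1 ∧ e 1 = Pi.single 1 1) ∨
       (σ = frob ∧ e 0 = Pi.single 1 1 ∧ e 1 = Pi.single 0 1)) := by
    rcases hσ.2 with h | h
    · exact ⟨![Pi.single 0 1, Pi.single 1 1, g2, g3, g4, g5], fun i hi => by
        fin_cases i <;> simp at hi <;> rfl, Or.inl ⟨h, rfl, rfl⟩⟩
    · exact ⟨![Pi.single 1 1, Pi.single 0 1, g2, g3, g4, g5], fun i hi => by
        fin_cases i <;> simp at hi <;> rfl, Or.inr ⟨h, rfl, rfl⟩⟩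
  have e2 : e 2 = g2 := he 2 (by decide)
  have e3 : e 3 = g3 := he 3 (by decide)
  have e4 : e 4 = g4 := he 4 (by decide)
  have e5 : e 5 = g5 := he 5 (by decide)
  have horth : OrthSys e := by
    intro i j
    rcases he01 with ⟨-, e0, e1⟩ | ⟨-, e0, e1⟩ <;>
    fin_cases i <;> fin_cases j <;>
      simp [e0, e1, e2, e3, e4, e5, H_single_single hF4, z01 g2z.1 g2z.2, z01 g3z.1 g3z.2,
        z01 g4z.1 g4z.2, z01 g5z.1 g5z.2, a2, a3, a4, a5, b23, b24, b25, b34, b35, b45,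
        H_comm_zero.1 b23, H_comm_zero.1 b24, H_comm_zero.1 b25, H_comm_zero.1 b34,
        H_comm_zero.1 b35, H_comm_zero.1 b45]
  have Tpl : ∀ (i j : Fin 6) (l : FF), (simOf e horth σ).T (pl i j l) = e i + σ l • e j := fun i j l => by
    rw [pl, Sim.add, show Pi.single j l = l • (Pi.single j 1 : Vec) by
      rw [← Pi.single_smul]; simp, Sim.smul, simOf_single, simOf_single]
    rfl
  obtain ⟨S, hS⟩ : ∃ S, S = simOf e horth σ := ⟨_, rfl⟩
  rw [← hS] at Tpl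
  have hST : ∀ v, WPt v → WPt (S.T v) := by
    intro v hv
    refine ⟨S.pt hv.1, ?_, ?_⟩ <;>
    · rw [hS, simOf_apply, comb, Fin.sum_univ_six, hv.2.1, hv.2.2, _root_.map_zero, e2, e3, e4, e5]
      simp [g2z.1, g2z.2, g3z.1, g3z.2, g4z.1, g4z.2, g5z.1, g5z.2]
  refine ⟨S, ?_, ?_, ?_⟩
  · refine ⟨1, one_ne_zero, ?_⟩
    rw [Tpl, map_one, one_smul, one_smul, pl]
    rcases he01 with ⟨-, e0, e1⟩ | ⟨-, e0, e1⟩ <;> rw [e0, e1]
    exact add_comm _ _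
  · rcases he01 with ⟨h, e0, e1⟩ | ⟨h, e0, e1⟩
    · refine ⟨1, one_ne_zero, ?_⟩
      rw [Tpl, e0, e1, h, one_smul, pl]
      simp [← Pi.single_smul]
    · refine ⟨FF.w2, by decide, ?_⟩
      rw [Tpl, e0, e1, h, frob_apply]
      decide +kernel
  -- fixed points
  let Fixd : Vec → Prop := fun v => ∃ s : FF, ψ v = s • S.T v
  have key : ∀ v, WPt v → Fixd v → ∀ c : FF, c ≠ 0 → Fixd (c • v) := by
    intro v hv ⟨s, hs⟩ c hc
    obtain ⟨s', hs'⟩ := hψ.smul v hv c hc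
    refine ⟨s' * s * (S.σ c)⁻¹, ?_⟩
    rw [hs', hs, S.smul, smul_smul, smul_smul, mul_assoc (s' * s),
      inv_mul_cancel₀ (fun e => hc ((RingEquiv.map_eq_zero_iff S.σ).1 e)), mul_one]
  have clo : ∀ u v, WPt u → WPt v → Fixd u → Fixd v → Fixd (τ u v) := by
    intro u v hu hv ⟨s, hs⟩ ⟨s', hs'⟩
    obtain ⟨r, hr⟩ := hψ.line u v hu hv
    have hs0 : s ≠ 0 := fun e => (hψ.maps u hu).1.1 (by rw [hs, e, zero_smul])
    refine ⟨r * s', ?_⟩
    rw [hr, hs, hs', tau_smul_left _ hs0, tau_smul_right, smul_smul, S.tau]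
  have base : ∀ {v r : Vec} {s : FF}, s ≠ 0 → r = s • ψ v → S.T v = r → Fixd v := by
    intro v r s hs h1 h2
    exact ⟨s⁻¹, by rw [h2, h1, inv_smul_smul₀ hs]⟩
  have cancel : ∀ x y : Vec, x + y + y = x := fun x y => by rw [add_assoc, vec_add_self, add_zero]
  have f1 : Fixd (pl 2 3 1) := base one_ne_zero (hr1.trans (one_smul FF _).symm) (by
    rw [Tpl, map_one, one_smul, e2, e3, hg2, cancel])
  have f2 : Fixd (pl 2 4 1) := base hs2 hr2 (by
    rw [Tpl, map_one, one_smul, e2, e4, hg4, ← add_assoc, add_comm g2 r2, cancel])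
  have f3 : Fixd (pl 4 5 1) := base hs3 hr3 (by
    rw [Tpl, map_one, one_smul, e4, e5, hg5, ← add_assoc, add_comm g4 r3, cancel])
  have f4 : Fixd (pl 2 3 FF.w) := base hs4 hr4 (by
    rw [Tpl, hσ.1, e2, e3, hg2, hg3]
    funext k
    simp only [Pi.add_apply, Pi.smul_apply, smul_eq_mul]
    generalize r1 k = x
    generalize r4 k = y
    rcases htc with rfl | rfl <;> revert x y <;> decide)
  have kpl : ∀ i j : Fin 6, ∀ l : FF, Prop := fun i j l => Fixd (pl i j l)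
  have sym : ∀ i j : Fin 6, i ≠ j → 2 ≤ (i : ℕ) → 2 ≤ (j : ℕ) → ∀ l : FF, l ≠ 0 →
      Fixd (pl i j l) → Fixd (pl j i (l ^ 2)) := by
    intro i j hij hi hj l hl h
    rw [flip_pl i j hij l hl]
    exact key _ (pl_wpt hij hi hj hl) h _ (pow_ne_zero 2 hl)
  have trans : ∀ i j k : Fin 6, i ≠ j → j ≠ k → i ≠ k → 2 ≤ (i : ℕ) → 2 ≤ (j : ℕ) → 2 ≤ (k : ℕ) →
      ∀ l m : FF, l ≠ 0 → m ≠ 0 → Fixd (pl i j l) → Fixd (pl j k m) → Fixd (pl i k (l * m)) := by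
    intro i j k hij hjk hik hi hj hk l m hl hm h1 h2
    have hwp : WPt (pl i k (l * m)) := pl_wpt hik hi hk (mul_ne_zero hl hm)
    have h := clo _ _ (pl_wpt hij hi hj hl) (pl_wpt hjk hj hk hm) h1 h2
    rw [chain_tau i j k hij hjk hik l m hl hm] at h
    have := key _ (hwp.smul (pow_ne_zero 2 hl)) h ((l ^ 2)⁻¹) (inv_ne_zero (pow_ne_zero 2 hl))
    rwa [inv_smul_smul₀ (pow_ne_zero 2 hl)] at this
  have f23 : ∀ l : FF, l ≠ 0 → Fixd (pl 2 3 l) := by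
    intro l hl
    obtain rfl | rfl | rfl := nonzero_cases l hl
    · exact f1
    · exact f4
    have h := clo _ _ w1 w4 f1 f4
    have hw2 : WPt (pl 2 3 FF.w2) := pl_wpt (by decide) (by decide) (by decide) (by decide)
    rcases tau_third with e | e | e <;> rw [e] at h
    · have := key _ (hw2.smul (by decide)) h FF.w (by decide)
      rwa [smul_smul, show FF.w * FF.w2 = 1 by decide, one_smul] at this
    · have := key _ (hw2.smul hw) h FF.w2 (by decide)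
      rwa [smul_smul, show FF.w2 * FF.w = 1 by decide, one_smul] at this
    · exact h
  have sq_inv : ∀ l : FF, l ≠ 0 → (l ^ 2) ^ 2 = l := fun l _ => sq_sq l
  have f32 : ∀ l : FF, l ≠ 0 → Fixd (pl 3 2 l) := fun l hl => by
    rw [← sq_inv l hl]
    exact sym 2 3 (by decide) (by decide) (by decide) _ (pow_ne_zero 2 hl) (f23 _ (pow_ne_zero 2 hl))
  have f341 : Fixd (pl 3 4 1) := one_mul (1 : FF) ▸ trans 3 2 4 (by decide) (by decide) (by decide)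
    (by decide) (by decide) (by decide) 1 1 one_ne_zero one_ne_zero (f32 1 one_ne_zero) f2
  have f251 : Fixd (pl 2 5 1) := one_mul (1 : FF) ▸ trans 2 4 5 (by decide) (by decide) (by decide)
    (by decide) (by decide) (by decide) 1 1 one_ne_zero one_ne_zero f2 f3
  have f351 : Fixd (pl 3 5 1) := one_mul (1 : FF) ▸ trans 3 2 5 (by decide) (by decide) (by decide)
    (by decide) (by decide) (by decide) 1 1 one_ne_zero one_ne_zero (f32 1 one_ne_zero) f251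
  have f24 : ∀ l : FF, l ≠ 0 → Fixd (pl 2 4 l) := fun l hl => mul_one l ▸ trans 2 3 4 (by decide)
    (by decide) (by decide) (by decide) (by decide) (by decide) l 1 hl one_ne_zero (f23 l hl) f341
  have f42 : ∀ l : FF, l ≠ 0 → Fixd (pl 4 2 l) := fun l hl => by
    rw [← sq_inv l hl]
    exact sym 2 4 (by decide) (by decide) (by decide) _ (pow_ne_zero 2 hl) (f24 _ (pow_ne_zero 2 hl))
  have f25 : ∀ l : FF, l ≠ 0 → Fixd (pl 2 5 l) := fun l hl => mul_one l ▸ trans 2 3 5 (by decide)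
    (by decide) (by decide) (by decide) (by decide) (by decide) l 1 hl one_ne_zero (f23 l hl) f351
  have f34 : ∀ l : FF, l ≠ 0 → Fixd (pl 3 4 l) := fun l hl => mul_one l ▸ trans 3 2 4 (by decide)
    (by decide) (by decide) (by decide) (by decide) (by decide) l 1 hl one_ne_zero (f32 l hl) f2
  have f35 : ∀ l : FF, l ≠ 0 → Fixd (pl 3 5 l) := fun l hl => mul_one l ▸ trans 3 2 5 (by decide)
    (by decide) (by decide) (by decide) (by decide) (by decide) l 1 hl one_ne_zero (f32 l hl) f251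
  have f45 : ∀ l : FF, l ≠ 0 → Fixd (pl 4 5 l) := fun l hl => mul_one l ▸ trans 4 2 5 (by decide)
    (by decide) (by decide) (by decide) (by decide) (by decide) l 1 hl one_ne_zero (f42 l hl) f251
  have upper : ∀ i j : Fin 6, i < j → 2 ≤ (i : ℕ) → ∀ l : FF, l ≠ 0 → Fixd (pl i j l) := by
    intro i j hij hi l hl
    fin_cases i <;> fin_cases j <;> first
      | exact absurd hi (by decide)
      | exact absurd hij (by decide)
      | exact f23 l hl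
      | exact f24 l hl
      | exact f25 l hl
      | exact f34 l hl
      | exact f35 l hl
      | exact f45 l hl
  have allpl : ∀ i j : Fin 6, i ≠ j → 2 ≤ (i : ℕ) → 2 ≤ (j : ℕ) → ∀ l : FF, l ≠ 0 →
      Fixd (pl i j l) := by
    intro i j hij hi hj l hl
    rcases lt_or_gt_of_ne hij with h | h
    · exact upper i j h hi l hl
    · rw [← sq_inv l hl]
      exact sym j i hij.symm hj hi _ (pow_ne_zero 2 hl) (upper j i h hj _ (pow_ne_zero 2 hl))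
  intro v hv
  refine ⟨hST v hv, ?_⟩
  obtain ⟨v', hv'⟩ : ∃ v', v' = S.T.symm (ψ v) := ⟨_, rfl⟩
  have hTv' : S.T v' = ψ v := by rw [hv', Equiv.apply_symm_apply]
  have z0 : WPt v' := by
    refine ⟨S.pt_iff.1 (hTv' ▸ (hψ.maps v hv).1), ?_, ?_⟩
    all_goals
      have hH : ∀ k : Fin 6, S.σ (v' k) = H (ψ v) (e k) := fun k => by
        rw [← hTv', hS, simOf_apply, H_comb_left horth]; rfl
      refine (RingEquiv.map_eq_zero_iff S.σ).1 ?_
      rw [hH]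
      rcases he01 with ⟨-, e0, e1⟩ | ⟨-, e0, e1⟩ <;>
        simp [e0, e1, H_single_right hF4, (hψ.maps v hv).2.1, (hψ.maps v hv).2.2]
  obtain ⟨s, hs⟩ := prop_of_perp hv z0 fun i j hij hi hj l hl => by
    have hp := pl_wpt hij hi hj hl
    obtain ⟨c, hc⟩ := allpl i j hij hi hj l hl
    have hc0 : c ≠ 0 := fun e => (hψ.maps _ hp).1.1 (by rw [hc, e, zero_smul])
    have h := hψ.perp v _ hv hp
    rw [hc, H_smul_right, ← hTv', mul_eq_zero, or_iff_right (pow_ne_zero 2 hc0), S.form_zero] at h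
    exact h.symm
  exact ⟨S.σ s, by rw [← hTv', hs, S.smul]⟩

end Cfsg.Agent.ThreeTransp.M22Iso
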