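import Cfsg.Agent.Lib.ThreeTransp.M22.Count
import Cfsg.Agent.InvChar.Coset.FieldFour

/-!
Six-dimensional unitary space over a concrete field with four elements: points, transvection images,
weights, and semilinear similarities given by orthonormal systems.
-/

set_option autoImplicit false
set_option linter.unusedSectionVars false

namespace Cfsg.Agent.ThreeTransp.M22Iso

open Cfsg.Agent.Classical.Unitary
open Cfsg.Agent.Forms
open Cfsg.Agent.InvChar.Coset (FF)

/-- The six-dimensional space. -/
abbrev Vec : Type := Fin 6 → FF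

local notation "H" => Cfsg.hermForm 6 FF 2

theorem hF4 : Fintype.card FF = 2 ^ 2 := rfl

theorem add_self (x : FF) : x + x = 0 := by revert x; decide

theorem cube (x : FF) (h : x ≠ 0) : x ^ 3 = 1 := by revert x h; decide

theorem sq_sq (x : FF) : (x ^ 2) ^ 2 = x := by revert x; decide

theorem sq_add (x y : FF) : (x + y) ^ 2 = x ^ 2 + y ^ 2 := by revert x y; decide

/-- The field automorphism. -/
def frob : FF ≃+* FF where
  toFun x := x ^ 2
  invFun x := x ^ 2
  left_inv := sq_sq
  right_inv := sq_sq
  map_mul' x y := mul_pow x y 2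
  map_add' := sq_add

theorem frob_apply (x : FF) : frob x = x ^ 2 := rfl

theorem vec_add_self (v : Vec) : v + v = 0 := funext fun i => add_self (v i)

theorem H_add_right4 (x y z : Vec) : H x (y + z) = H x y + H x z := H_add_right hF4 x y z

theorem H_comm_zero {u v : Vec} : H u v = 0 ↔ H v u = 0 := H_eq_zero_comm hF4

theorem H_conj4 (u v : Vec) : H u v ^ 2 = H v u := H_conj hF4 u v

/-- A non-zero isotropic vector. -/
def Pt (v : Vec) : Prop := v ≠ 0 ∧ H v v = 0

instance (v : Vec) : Decidable (Pt v) := inferInstanceAs (Decidable (_ ∧ _))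

/-- The image of `v` under the transvection at `u`. -/
def τ (u v : Vec) : Vec := v + H v u • u

theorem Pt.smul {v : Vec} (h : Pt v) {c : FF} (hc : c ≠ 0) : Pt (c • v) :=
  ⟨smul_ne_zero hc h.1, by rw [H_smul_left, H_smul_right, h.2, mul_zero, mul_zero]⟩

theorem Pt.smul_ne {v : Vec} (h : Pt v) {c : FF} {w : Vec} (hw : Pt w) (e : w = c • v) : c ≠ 0 :=
  fun h0 => hw.1 (by rw [e, h0, zero_smul])

theorem Pt.tau {u v : Vec} (hu : H u u = 0) (hv : Pt v) : Pt (τ u v) := by
  refine ⟨fun e => ?_, ?_⟩
  · have h1 : H (τ u v) u = 0 := by rw [e, H_zero_left]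
    rw [τ, H_add_left, H_smul_left, hu, mul_zero, add_zero] at h1
    rw [τ, h1, zero_smul, add_zero] at e
    exact hv.1 e
  · simp only [τ, H_add_left, H_add_right4, H_smul_left, H_smul_right, hu, hv.2, H_conj4, mul_zero,
      add_zero, zero_add]
    rw [mul_comm (H u v) (H v u)]
    exact add_self _

theorem tau_smul_left {u : Vec} (v : Vec) {c : FF} (hc : c ≠ 0) : τ (c • u) v = τ u v := by
  rw [τ, τ, H_smul_right, smul_smul, mul_assoc, mul_comm (H v u), ← mul_assoc,
    show c ^ 2 * c = c ^ 3 by ring, cube c hc, one_mul]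

theorem tau_smul_right (u v : Vec) (c : FF) : τ u (c • v) = c • τ u v := by
  rw [τ, τ, H_smul_left, smul_add, smul_smul]

theorem tau_fix {u v : Vec} (h : H v u = 0) : τ u v = v := by rw [τ, h, zero_smul, add_zero]

/-- The number of non-zero coordinates. -/
def wt (v : Vec) : ℕ := (Finset.univ.filter fun i => v i ≠ 0).card

/-- The model of the common neighbourhood of a non-commuting pair. -/
def Std (v : Vec) : Prop := wt v = 2 ∨ (wt v = 6 ∧ ∏ i, v i = 1)

instance (v : Vec) : Decidable (Std v) := inferInstanceAs (Decidable (_ ∨ _))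

set_option maxRecDepth 100000 in
theorem wt_even : ∀ v : Vec, Pt v → wt v = 2 ∨ wt v = 4 ∨ wt v = 6 := by decide +kernel

theorem wt_smul {c : FF} (hc : c ≠ 0) (v : Vec) : wt (c • v) = wt v := by
  simp [wt, hc]

theorem prod_smul {c : FF} (hc : c ≠ 0) (v : Vec) : ∏ i, (c • v) i = ∏ i, v i := by
  simp only [Pi.smul_apply, smul_eq_mul, Finset.prod_mul_distrib, Finset.prod_const,
    Finset.card_univ, Fintype.card_fin]
  rw [show c ^ 6 = (c ^ 3) ^ 2 by ring, cube c hc, one_pow, one_mul]

theorem std_smul {c : FF} (hc : c ≠ 0) (v : Vec) : Std (c • v) ↔ Std v := by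
  rw [Std, Std, wt_smul hc, prod_smul hc]

set_option maxRecDepth 100000 in
theorem card_std : (Finset.univ.filter fun v : Vec => Pt v ∧ Std v).card = 378 := by decide +kernel

/-- A semilinear similarity. -/
structure Sim where
  T : Vec ≃ Vec
  σ : FF ≃+* FF
  add : ∀ u v, T (u + v) = T u + T v
  smul : ∀ (c : FF) v, T (c • v) = σ c • T v
  form : ∀ u v, H (T u) (T v) = σ (H u v)

namespace Sim

variable (S : Sim)

theorem map_zero : S.T 0 = 0 := by
  have := S.smul 0 0
  rwa [_root_.map_zero, zero_smul, zero_smul] at this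

theorem pt {v : Vec} (h : Pt v) : Pt (S.T v) := by
  refine ⟨fun e => h.1 (S.T.injective (e.trans S.map_zero.symm)), ?_⟩
  rw [S.form, h.2, _root_.map_zero]

theorem pt_iff {v : Vec} : Pt (S.T v) ↔ Pt v := by
  refine ⟨fun h => ⟨fun e => h.1 (by rw [e, S.map_zero]), ?_⟩, S.pt⟩
  have := h.2
  rwa [S.form, RingEquiv.map_eq_zero_iff] at this

theorem form_zero {u v : Vec} : H (S.T u) (S.T v) = 0 ↔ H u v = 0 := by
  rw [S.form, RingEquiv.map_eq_zero_iff]

theorem tau (u v : Vec) : S.T (τ u v) = τ (S.T u) (S.T v) := by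
  rw [τ, τ, S.add, S.smul, S.form]

theorem prop_iff {u v : Vec} : (∃ c : FF, S.T v = c • S.T u) ↔ ∃ c : FF, v = c • u := by
  constructor
  · rintro ⟨c, hc⟩
    refine ⟨S.σ.symm c, S.T.injective ?_⟩
    rw [S.smul, RingEquiv.apply_symm_apply, hc]
  · rintro ⟨c, rfl⟩
    exact ⟨S.σ c, S.smul c u⟩

end Sim

/-- An orthonormal system. -/
def OrthSys (e : Fin 6 → Vec) : Prop := ∀ i j, H (e i) (e j) = if i = j then 1 else 0

/-- The linear combinations of a system, twisted by a field automorphism. -/
def comb (e : Fin 6 → Vec) (σ : FF ≃+* FF) (v : Vec) : Vec := ∑ i, σ (v i) • e i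

theorem H_comb_left {e : Fin 6 → Vec} (he : OrthSys e) (σ : FF ≃+* FF) (v : Vec) (j : Fin 6) :
    H (comb e σ v) (e j) = σ (v j) := by
  simp only [comb, H_sum_left, H_smul_left, he _ j, mul_ite, mul_one, mul_zero, Finset.sum_ite_eq',
    Finset.mem_univ, if_true]

theorem comb_injective {e : Fin 6 → Vec} (he : OrthSys e) (σ : FF ≃+* FF) :
    Function.Injective (comb e σ) := fun v w h => funext fun j => σ.injective (by
  rw [← H_comb_left he σ v j, ← H_comb_left he σ w j, h])

/-- The similarity of an orthonormal system and a field automorphism. -/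
noncomputable def simOf (e : Fin 6 → Vec) (he : OrthSys e) (σ : FF ≃+* FF) : Sim where
  T := Equiv.ofBijective (comb e σ) (Finite.injective_iff_bijective.1 (comb_injective he σ))
  σ := σ
  add u v := by
    simp only [Equiv.ofBijective_apply, comb, Pi.add_apply, map_add, add_smul,
      Finset.sum_add_distrib]
  smul c v := by
    simp only [Equiv.ofBijective_apply, comb, Pi.smul_apply, smul_eq_mul, map_mul, mul_smul,
      Finset.smul_sum]
  form u v := by
    simp only [Equiv.ofBijective_apply]
    conv_lhs => arg 5; rw [comb]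
    rw [H_sum_right hF4]
    simp only [H_smul_right, H_comb_left he]
    rw [Cfsg.hermForm, map_sum]
    refine Finset.sum_congr rfl fun i _ => ?_
    rw [map_mul, map_pow, mul_comm]

theorem simOf_apply (e : Fin 6 → Vec) (he : OrthSys e) (σ : FF ≃+* FF) (v : Vec) :
    (simOf e he σ).T v = comb e σ v := rfl

theorem simOf_single (e : Fin 6 → Vec) (he : OrthSys e) (σ : FF ≃+* FF) (i : Fin 6) :
    (simOf e he σ).T (Pi.single i 1) = e i := by
  rw [simOf_apply, comb, Finset.sum_eq_single i (fun j _ hji => by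
    rw [Pi.single_eq_of_ne hji, _root_.map_zero, zero_smul]) (by simp), Pi.single_eq_same, map_one,
    one_smul]

/-- The system of a permutation and six non-zero scalars. -/
def monSys (π : Equiv.Perm (Fin 6)) (c : Fin 6 → FF) : Fin 6 → Vec :=
  fun i => c i • Pi.single (π i) 1

theorem orthSys_mon (π : Equiv.Perm (Fin 6)) {c : Fin 6 → FF} (hc : ∀ i, c i ≠ 0) :
    OrthSys (monSys π c) := by
  intro i j
  rw [monSys, monSys, H_smul_left, H_smul_right, H_single_single hF4]
  by_cases h : i = j
  · subst h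
    simp only [if_true, mul_one]
    rw [← pow_succ', cube _ (hc i)]
  · rw [if_neg (fun e => h (π.injective e)), if_neg h, mul_zero, mul_zero]

/-- A monomial similarity, coordinate by coordinate. -/
noncomputable def mon (π : Equiv.Perm (Fin 6)) (c : Fin 6 → FF) (hc : ∀ i, c i ≠ 0)
    (σ : FF ≃+* FF) : Sim := simOf (monSys π c) (orthSys_mon π hc) σ

theorem mon_apply (π : Equiv.Perm (Fin 6)) (c : Fin 6 → FF) (hc : ∀ i, c i ≠ 0) (σ : FF ≃+* FF)
    (v : Vec) (i : Fin 6) : (mon π c hc σ).T v (π i) = σ (v i) * c i := by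
  rw [mon, simOf_apply, comb, Finset.sum_apply, Finset.sum_eq_single i (fun j _ hji => by
    simp [monSys, Pi.single_eq_of_ne (fun e => hji (π.injective e).symm)]) (by simp)]
  simp [monSys]

/-- The composite of two similarities. -/
def Sim.trans (S S' : Sim) : Sim where
  T := S.T.trans S'.T
  σ := S.σ.trans S'.σ
  add u v := by simp [S.add, S'.add]
  smul c v := by simp [S.smul, S'.smul]
  form u v := by simp [S.form, S'.form]

theorem Sim.trans_apply (S S' : Sim) (v : Vec) : (S.trans S').T v = S'.T (S.T v) := rfl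

end Cfsg.Agent.ThreeTransp.M22Iso
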